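import Cfsg.Agent.Blocks.AbelianFrobenius.Main
import Cfsg.Agent.Blocks.Orth.InvolutionColumns
import Cfsg.Agent.Blocks.Orth.ClassMult
import Cfsg.Agent.ZStar.Quaternion

/-!
# Frobenius normalizer of index three

The principal block for an abelian Sylow subgroup with `|N/C| = 3`, and what an involution
generating the group normally says about the signs and degrees.
-/

set_option autoImplicit false
open Cfsg CfsgLib
open CfsgLib.Blocks CfsgLib.Blocks.HeightZero
open scoped ComplexConjugate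

namespace CfsgLib.Blocks.AbelianFrobenius

universe u

section General

variable {G : Type u} [Group G] [Finite G] {p : ℕ} [Fact p.Prime] {M : Ideal AlgInt}

/-- If the product of two conjugates of `t` never has `p`-part conjugate to `y`, the class
multiplication sum of `t`, `t`, `y` vanishes on every block. -/
theorem sum_sq_div_mul_eq_zero (hM : IsPModular p M) {B : Set (IrrCharacter G)}
    (hB : IsPBlock M B) {t y : G} (htt : t * t = 1) (hy : ∃ k : ℕ, orderOf y = p ^ k)
    (hprod : ∀ a u : G, IsPPart p (t * (a * t * a⁻¹)) u → ¬ IsConj y u) :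
    ∑ χ ∈ B.toFinite.toFinset, (χ : G → ℂ) t ^ 2 / (χ : G → ℂ) 1 * (χ : G → ℂ) y = 0 := by
  classical
  have := Fintype.ofFinite G
  have hp : p.Prime := Fact.out
  have htinv : t⁻¹ = t := inv_eq_of_mul_eq_one_right htt
  set F : G → ℂ := ∑ χ : IrrCharacter G, ((χ : G → ℂ) t ^ 2 / (χ : G → ℂ) 1) • (χ : G → ℂ) with hF
  have hFzero : ∀ g v : G, IsPPart p g v → IsConj y v → F g = 0 := by
    intro g v hv hyv
    have hG0 : (Nat.card G : ℂ) ≠ 0 := Nat.cast_ne_zero.2 Nat.card_pos.ne'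
    refine mul_left_cancel₀ hG0 ?_
    rw [mul_zero, hF, Finset.sum_apply, Finset.mul_sum]
    have e : ∀ χ : IrrCharacter G,
        (Nat.card G : ℂ) * (((χ : G → ℂ) t ^ 2 / (χ : G → ℂ) 1) • (χ : G → ℂ)) g =
          ∑ a : G, (χ : G → ℂ) (t * (a * t * a⁻¹)) * (χ : G → ℂ) g := by
      intro χ
      rw [← Finset.sum_mul, Chars.sum_map_mul_conjugate, Pi.smul_apply, smul_eq_mul]
      ring
    rw [Finset.sum_congr rfl fun χ _ => e χ, Finset.sum_comm]
    refine Finset.sum_eq_zero fun a _ => ?_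
    have h := Chars.sum_irr_mul_map_inv (t * (a * t * a⁻¹)) g⁻¹
    rw [inv_inv] at h
    rw [h, if_neg]
    intro hc
    obtain ⟨c, hc⟩ := isConj_iff.1 hc
    have hg : (c * t) * (t * (a * t * a⁻¹)) * (c * t)⁻¹ = g := by
      rw [← inv_inv g, ← hc]
      simp only [mul_inv_rev, inv_inv, htinv, mul_assoc]
      rw [← mul_assoc t t, htt, one_mul]
    have hu := isPPart_conj hv (c * t)⁻¹
    have hx : (c * t)⁻¹ * g * (c * t)⁻¹⁻¹ = t * (a * t * a⁻¹) := by
      rw [← hg]
      group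
    rw [hx] at hu
    exact hprod a _ hu (hyv.trans (isConj_iff.2 ⟨(c * t)⁻¹, rfl⟩))
  have hFB : ∀ χ : IrrCharacter G,
      classInner F (χ : G → ℂ) = (χ : G → ℂ) t ^ 2 / (χ : G → ℂ) 1 := by
    intro χ
    rw [hF, Chars.classInner_sum_left]
    simp only [Chars.classInner_smul_left, Chars.classInner_irr, mul_ite, mul_one, mul_zero,
      Finset.sum_ite_eq', Finset.mem_univ, if_true]
  rw [Finset.sum_congr rfl fun χ _ => by rw [← hFB χ]]
  simp only [classInner, mul_assoc, ← Finset.mul_sum]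
  refine mul_eq_zero_of_right _ ?_
  simp only [Finset.sum_mul]
  rw [Finset.sum_comm]
  refine Finset.sum_eq_zero fun g _ => ?_
  by_cases hg : F g = 0
  · exact Finset.sum_eq_zero fun χ _ => by simp [hg]
  obtain ⟨v, hv⟩ := exists_isPPart (p := p) hp g
  have hnc : ¬ IsConj v y := fun h => hg (hFzero g v hv h.symm)
  have hyy : IsPPart p y y := ⟨1, mul_one y, Commute.one_right y, hy, by simp [hp.ne_one]⟩
  have h := finsum_block_mul_conj_eq_zero_of_pPart hM hB hyy hv hnc
  rw [finsum_block_eq_sum] at h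
  calc ∑ χ ∈ B.toFinite.toFinset, F g * conj ((χ : G → ℂ) g) * (χ : G → ℂ) y
      = F g * ∑ χ ∈ B.toFinite.toFinset, (χ : G → ℂ) y * conj ((χ : G → ℂ) g) := by
        rw [Finset.mul_sum]
        exact Finset.sum_congr rfl fun χ _ => by ring
    _ = 0 := by rw [h, mul_zero]

omit [Fact p.Prime] in
/-- A character takes an integer value at an involution. -/
theorem exists_int_apply_two (χ : IrrCharacter G) {t : G} (ht : orderOf t = 2) :
    ∃ u : ℤ, (χ : G → ℂ) t = u := by
  classical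
  have := Fintype.ofFinite G
  letI := Fintype.ofFinite (Subgroup.zpowers t)
  obtain ⟨k, hk⟩ := exists_sum_subgroup_eq χ (Subgroup.zpowers t)
  have ht1 : t ≠ 1 := fun h => by simp [h] at ht
  have hcard : Fintype.card (Subgroup.zpowers t) = 2 := by
    rw [← Nat.card_eq_fintype_card, Nat.card_zpowers, ht]
  have hne : (1 : Subgroup.zpowers t) ≠ ⟨t, Subgroup.mem_zpowers t⟩ := fun h =>
    ht1 (congrArg Subtype.val h).symm
  have huniv : ({1, ⟨t, Subgroup.mem_zpowers t⟩} : Finset (Subgroup.zpowers t)) = Finset.univ :=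
    Finset.eq_univ_of_card _ (by rw [Finset.card_pair hne, hcard])
  rw [← huniv, Finset.sum_pair hne] at hk
  refine ⟨2 * (k : ℤ) - charDegree (χ : G → ℂ), ?_⟩
  push_cast
  rw [Chars.coe_charDegree]
  simp only [Nat.card_zpowers, ht, Nat.card_eq_fintype_card, hcard, OneMemClass.coe_one] at hk
  push_cast at hk
  linear_combination hk

end General

/-- One negative among three signs is impossible. -/
theorem eq_of_one_neg {da db dc xa xb xc : ℤ} (ha : 0 < da) (hb : 0 < db)
    (h1 : 1 + da + db = dc) (h2 : 1 + xa + xb = xc)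
    (h3 : dc * (da * db + xa ^ 2 * db + xb ^ 2 * da) = xc ^ 2 * (da * db)) : xa = da := by
  have h : db * (xa - da) ^ 2 + da * (xb - db) ^ 2 + (xa * db - xb * da) ^ 2 = 0 := by
    subst h1 h2
    linear_combination h3
  have h' : db * (xa - da) ^ 2 = 0 := by
    nlinarith [mul_nonneg hb.le (sq_nonneg (xa - da)), mul_nonneg ha.le (sq_nonneg (xb - db)),
      sq_nonneg (xa * db - xb * da)]
  rcases mul_eq_zero.1 h' with h | h
  · omega
  · exact sub_eq_zero.1 (eq_zero_of_pow_eq_zero h)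

/-- Two negatives among three signs give a square product of degrees. -/
theorem isSquare_of_two_neg {da db dc : ℕ} {xa xb xc : ℤ}
    (h1 : 1 + (dc : ℤ) = da + db) (h2 : 1 + xc = xa + xb)
    (h3 : ((da : ℤ) * db * dc + xc ^ 2 * (da * db)) = (dc : ℤ) * (xa ^ 2 * db + xb ^ 2 * da))
    (hne : xc ≠ dc) : IsSquare (dc * (da * db)) := by
  have h : ((db * xa - da * xb) * dc) ^ 2 =
      (xc - dc) ^ 2 * ((dc : ℤ) * (da * db)) := by
    have hxc : xc = xa + xb - 1 := by linarith
    have hdc : (dc : ℤ) = da + db - 1 := by linarith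
    rw [hxc, hdc] at h3 ⊢
    linear_combination -(((da : ℤ) + db - 1) * ((da : ℤ) + db)) * h3
  have hdvd : (xc - dc) ^ 2 ∣ ((db * xa - da * xb) * dc) ^ 2 := ⟨_, h⟩
  obtain ⟨m, hm⟩ := (Int.pow_dvd_pow_iff two_ne_zero).1 hdvd
  have hsq : m ^ 2 = (dc : ℤ) * (da * db) := by
    have h0 : (xc - dc) ^ 2 ≠ 0 := pow_ne_zero _ (sub_ne_zero.2 hne)
    refine mul_left_cancel₀ h0 ?_
    rw [← h, hm]
    ring
  refine ⟨m.natAbs, ?_⟩
  have := congrArg Int.natAbs hsq
  simp only [Int.natAbs_pow, Int.natAbs_mul, Int.natAbs_natCast] at this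
  rw [← this, sq]

/-- No solution with two signs, a large modulus and the value forced at an involution of `P`. -/
theorem no_two_solution {q a b x y : ℤ} (hq : 16 ≤ q) (ha : a = 1 ∨ a = -1) (hb : b = 1 ∨ b = -1)
    (hx : 15 ≤ x) (hy : 15 ≤ y) (hxa : q ∣ x - a) (hyb : q ∣ y - b)
    (h : (1 + a * x + b * y) * (x * y + a * y + b * x) = 9 * (x * y)) : False := by
  have hxy : 0 < x * y := mul_pos (by linarith) (by linarith)
  have key : ∀ {x y : ℤ}, 15 ≤ x → 15 ≤ y → q ∣ x - 1 → q ∣ y + 1 →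
      (1 + x - y) * (x * y + y - x) = 9 * (x * y) → False := by
    intro x y hx hy hxa hyb h
    have hB : 0 < x * y + y - x := by nlinarith
    obtain ⟨k, hk⟩ : q ∣ 1 + x - y - 3 := by
      have := Int.dvd_sub hxa hyb
      rwa [show 1 + x - y - 3 = x - 1 - (y + 1) by ring]
    have hT : 0 < 1 + x - y := by
      by_contra hn
      nlinarith
    rcases lt_trichotomy k 0 with hk0 | hk0 | hk0
    · nlinarith
    · subst hk0
      rw [mul_zero] at hk
      have : x = y + 2 := by linarith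
      subst this
      nlinarith
    · have : 19 ≤ 1 + x - y := by nlinarith
      have hB' : 14 * (x * y) ≤ 15 * (x * y + y - x) := by nlinarith
      nlinarith [mul_le_mul_of_nonneg_right this hB.le]
  rcases ha with rfl | rfl <;> rcases hb with rfl | rfl
  · nlinarith [mul_le_mul_of_nonneg_right (show (31 : ℤ) ≤ 1 + 1 * x + 1 * y by linarith)
      (show (0 : ℤ) ≤ x * y by linarith)]
  · exact key hx hy hxa (by simpa using hyb) (by linear_combination h)
  · exact key hy hx hyb (by simpa using hxa) (by linear_combination h)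
  · have hB : 0 < x * y - y - x := by nlinarith
    nlinarith [mul_nonneg (show (0 : ℤ) ≤ -(1 + -1 * x + -1 * y) by linarith) hB.le]

variable {G : Type u} [Group G] [Fintype G] {p : ℕ} [Fact p.Prime] {M : Ideal AlgInt}
  {P : Sylow p G} [hab : IsMulCommutative P]

omit [Fintype G] [Fact p.Prime] in
/-- The orbit sums of the non-trivial linear characters add up to `-1`. -/
theorem sum_orb_rep [Finite (P : Subgroup G)] {A : Subgroup (MulAut (P : Subgroup G))}
    [Fintype A] [Fintype (Orb A)] (hA : FPF A) {y : (P : Subgroup G)} (hy : y ≠ 1) :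
    ∑ i : Orb A, ∑ a : A, (Orb.rep A i ((a : MulAut (P : Subgroup G)) y) : ℂ) = -1 := by
  classical
  letI := Fintype.ofFinite (P : Subgroup G)
  letI := Fintype.ofFinite ((P : Subgroup G) →* ℂˣ)
  have hzero : ∑ ψ : (P : Subgroup G) →* ℂˣ, (ψ y : ℂ) = 0 := by
    obtain ⟨l, hl⟩ := Chars.exists_linChar_ne_one (G := (P : Subgroup G)) (g := y) (by
      rw [commutator_eq_bot (G := ↥(P : Subgroup G)), Subgroup.mem_bot]
      exact hy)
    have h := Equiv.sum_comp (Equiv.mulLeft l) fun ψ : (P : Subgroup G) →* ℂˣ => (ψ y : ℂ)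
    simp only [Equiv.coe_mulLeft, MonoidHom.mul_apply, Units.val_mul, ← Finset.mul_sum] at h
    have : ((l y : ℂ) - 1) * ∑ ψ : (P : Subgroup G) →* ℂˣ, (ψ y : ℂ) = 0 := by
      rw [sub_mul, one_mul, h, sub_self]
    exact (mul_eq_zero.1 this).resolve_left (sub_ne_zero.2 fun e => hl (Units.ext e))
  rw [Fintype.sum_eq_add_sum_subtype_ne _ (1 : (P : Subgroup G) →* ℂˣ)] at hzero
  rw [← Fintype.sum_prod_type']
  have := Fintype.sum_bijective _ (twist_rep_bijective hA)
    (fun x : Orb A × A => (Orb.rep A x.1 ((x.2 : MulAut (P : Subgroup G)) y) : ℂ))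
    (fun ψ => ((ψ.1 y : ℂˣ) : ℂ)) fun x => rfl
  rw [this]
  simp only [MonoidHom.one_apply, Units.val_one] at hzero
  linear_combination hzero

/-- **The principal block when `|N/C| = 3`.** -/
theorem exists_three_family (hM : IsPModular p M) (hfrob : Frob P)
    (hA3 : Nat.card (autP P) = 3) (hm : 4 < Nat.card (P : Subgroup G)) :
    ∃ (χ₂ χ₃ : IrrCharacter G) (a₂ a₃ δ : ℤ) (ζ : Orb (autP P) → IrrCharacter G),
      (δ = 1 ∨ δ = -1) ∧ (a₂ = 1 ∨ a₂ = -1) ∧ (a₃ = 1 ∨ a₃ = -1) ∧ Function.Injective ζ ∧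
      χ₂ ≠ Chars.oneChar G ∧ χ₃ ≠ Chars.oneChar G ∧ χ₂ ≠ χ₃ ∧
      Disjoint ({Chars.oneChar G, χ₂, χ₃} : Set (IrrCharacter G)) (Set.range ζ) ∧
      principalBlock M G = {Chars.oneChar G, χ₂, χ₃} ∪ Set.range ζ ∧
      (∀ y : (P : Subgroup G), (y : G) ≠ 1 →
        (χ₂ : G → ℂ) y = (a₂ : ℂ) ∧ (χ₃ : G → ℂ) y = (a₃ : ℂ)) ∧
      (∀ i, ∀ y : (P : Subgroup G), (y : G) ≠ 1 → (ζ i : G → ℂ) y = (δ : ℂ) *
        ∑ᶠ a : autP P, (Orb.rep (autP P) i ((a : MulAut (P : Subgroup G)) y) : ℂ)) ∧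
      (∀ i j g, ¬ p ∣ orderOf g → (ζ i : G → ℂ) g = (ζ j : G → ℂ) g) ∧
      Nat.card (Orb (autP P)) * 3 + 1 = Nat.card (P : Subgroup G) ∧
      ∀ i g, ¬ p ∣ orderOf g →
        1 + (a₂ : ℂ) * (χ₂ : G → ℂ) g + (a₃ : ℂ) * (χ₃ : G → ℂ) g =
          (δ : ℂ) * (ζ i : G → ℂ) g := by
  classical
  have := isMaximal_of_isPModular hM
  haveI : Finite (MulAut (P : Subgroup G)) := Finite.of_injective _ DFunLike.coe_injective
  letI := Fintype.ofFinite (autP P)
  letI := Fintype.ofFinite (Orb (autP P))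
  obtain ⟨d, δ, d₀, ζ, hδ, hinj, hζB, -, hone, hX, hY, hagree, hcnt, hnorm, hrel⟩ :=
    exists_family hM hfrob (by omega)
  rw [hA3] at hcnt hnorm
  set r := Nat.card (Orb (autP P)) with hr
  have hr2 : 2 ≤ r := by omega
  set X := principalBlock M G \ Set.range ζ with hXdef
  have hXfin : X.Finite := Set.toFinite _
  set T := hXfin.toFinset with hT
  have h1X : Chars.oneChar G ∈ T := (Set.Finite.mem_toFinset _).2
    ⟨oneChar_mem_principalBlock, hone⟩
  haveI : Nontrivial (P : Subgroup G) := Finite.one_lt_card_iff_nontrivial.1 (by omega)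
  obtain ⟨y₀, hy₀⟩ := exists_ne (1 : (P : Subgroup G))
  have hy₀' : (y₀ : G) ≠ 1 := fun e => hy₀ (Subtype.ext e)
  have hd1 : d (Chars.oneChar G) = 1 := by
    have h := (hX _ oneChar_mem_principalBlock hone).2 y₀ hy₀'
    rw [Chars.oneChar_apply] at h
    exact_mod_cast h.symm
  rw [finsum_mem_eq_finite_toFinset_sum _ hXfin, ← Finset.add_sum_erase _ _ h1X, hd1] at hnorm
  have hsq : ∀ χ ∈ T.erase (Chars.oneChar G), d χ ≠ 0 := fun χ hχ => by
    have := (Set.Finite.mem_toFinset _).1 (Finset.mem_of_mem_erase hχ)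
    exact (hX χ this.1 this.2).1
  have hnonneg : 0 ≤ ∑ χ ∈ T.erase (Chars.oneChar G), d χ ^ 2 :=
    Finset.sum_nonneg fun _ _ => sq_nonneg _
  -- the possible values of `d₀`
  have hd₀ : d₀ = 0 ∨ d₀ = δ := by
    by_contra h
    push Not at h
    have h1 : 1 ≤ d₀ ^ 2 := by
      have := abs_pos.2 h.1
      nlinarith [sq_abs d₀]
    have h2 : 1 ≤ (d₀ - δ) ^ 2 := by
      have := abs_pos.2 (sub_ne_zero.2 h.2)
      nlinarith [sq_abs (d₀ - δ)]
    have hr2' : (2 : ℤ) ≤ r := by exact_mod_cast hr2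
    push_cast at hnorm
    rcases hδ with rfl | rfl
    · rcases le_or_gt d₀ (-1) with h' | h'
      · nlinarith
      · have : 2 ≤ d₀ := by omega
        nlinarith
    · rcases le_or_gt 1 d₀ with h' | h'
      · nlinarith
      · have : d₀ ≤ -2 := by omega
        nlinarith
  have hcase : ∃ (ζ' : Orb (autP P) → IrrCharacter G) (δ' : ℤ), (δ' = 1 ∨ δ' = -1) ∧
      Function.Injective ζ' ∧ Set.range ζ' = Set.range ζ ∧
      ∑ χ ∈ T.erase (Chars.oneChar G), d χ ^ 2 = 2 ∧
      (∀ i, ∀ y : (P : Subgroup G), (y : G) ≠ 1 → (ζ' i : G → ℂ) y = (δ' : ℂ) *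
        ∑ᶠ a : autP P, (Orb.rep (autP P) i ((a : MulAut (P : Subgroup G)) y) : ℂ)) ∧
      ∀ i g, ¬ p ∣ orderOf g → ∑ χ ∈ T, (d χ : ℂ) * (χ : G → ℂ) g =
        (δ' : ℂ) * (ζ' i : G → ℂ) g := by
    rcases hd₀ with rfl | rfl
    · refine ⟨ζ, δ, hδ, hinj, rfl, ?_, fun i y hy => ?_, fun i g hg => ?_⟩
      · push_cast at hnorm
        rcases hδ with rfl | rfl <;> linarith
      · rw [hY i y hy, Int.cast_zero, zero_add]
      · have h := hrel i g hg
        rw [finsum_mem_eq_finite_toFinset_sum _ hXfin] at h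
        push_cast at h
        linear_combination h
    -- `d₀ = δ`
    have hδ2 : d₀ * d₀ = 1 := by rcases hδ with rfl | rfl <;> rfl
    have hsum : (r : ℤ) - 1 + ∑ χ ∈ T.erase (Chars.oneChar G), d χ ^ 2 = 3 := by
      push_cast at hnorm
      linear_combination hnorm - ((r : ℤ) - 1) * hδ2
    have hr4 : r ≤ 4 := by omega
    have hq := P.2.exists_card_eq
    rcases (show r = 2 ∨ r = 3 ∨ r = 4 by omega) with h2 | h3 | h4
    · -- two exceptional characters: exchange them
      obtain ⟨i₀, i₁, hne, huniv⟩ : ∃ i₀ i₁ : Orb (autP P), i₀ ≠ i₁ ∧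
          ({i₀, i₁} : Finset (Orb (autP P))) = Finset.univ := by
        have : (Finset.univ : Finset (Orb (autP P))).card = 2 := by
          rw [Finset.card_univ, ← Nat.card_eq_fintype_card, ← hr, h2]
        obtain ⟨i₀, i₁, hne, h⟩ := Finset.card_eq_two.1 this
        exact ⟨i₀, i₁, hne, h.symm⟩
      refine ⟨ζ ∘ Equiv.swap i₀ i₁, -d₀, by omega, hinj.comp (Equiv.injective _), ?_, ?_, ?_, ?_⟩
      · rw [Set.range_comp, Equiv.range_eq_univ, Set.image_univ]
      · rw [h2] at hsum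
        push_cast at hsum
        linarith
      · intro i y hy
        have hy' : y ≠ 1 := fun e => hy (congrArg Subtype.val e)
        have hS := sum_orb_rep (A := autP P) (fpf_autP hfrob) hy'
        rw [← huniv, Finset.sum_pair hne] at hS
        rw [Function.comp_apply, hY _ y hy]
        simp only [finsum_eq_sum_of_fintype]
        have hi : i = i₀ ∨ i = i₁ := by
          have := Finset.mem_univ i
          rw [← huniv] at this
          simpa using this
        rcases hi with rfl | rfl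
        · rw [Equiv.swap_apply_left]
          push_cast
          linear_combination (d₀ : ℂ) * hS
        · rw [Equiv.swap_apply_right]
          push_cast
          linear_combination (d₀ : ℂ) * hS
      · intro i g hg
        have h := hrel i g hg
        rw [finsum_mem_eq_finite_toFinset_sum _ hXfin, h2] at h
        rw [Function.comp_apply, hagree (Equiv.swap i₀ i₁ i) i g hg]
        push_cast at h ⊢
        linear_combination h
    · obtain ⟨k, hk⟩ := hq
      exfalso
      have h10 : Nat.card (P : Subgroup G) = 10 := by omega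
      have h10' : p ^ k = 10 := hk ▸ h10
      have hk0 : k ≠ 0 := fun e => by simp [e] at h10'
      have hp : p.Prime := Fact.out
      have h2 := (Nat.Prime.dvd_of_dvd_pow Nat.prime_two (h10' ▸ (by norm_num) : 2 ∣ p ^ k))
      have h5 := (Nat.Prime.dvd_of_dvd_pow (by norm_num : Nat.Prime 5)
        (h10' ▸ (by norm_num) : 5 ∣ p ^ k))
      rw [Nat.prime_dvd_prime_iff_eq Nat.prime_two hp] at h2
      rw [Nat.prime_dvd_prime_iff_eq (by norm_num) hp] at h5
      omega
    · exfalso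
      have hempty : T.erase (Chars.oneChar G) = ∅ := by
        by_contra h
        obtain ⟨χ, hχ⟩ := Finset.nonempty_iff_ne_empty.2 h
        have h' := Finset.single_le_sum (fun ψ _ => sq_nonneg (d ψ)) hχ
        have := abs_pos.2 (hsq χ hχ)
        rw [h4] at hsum
        push_cast at hsum
        nlinarith [sq_abs (d χ)]
      obtain ⟨i⟩ : Nonempty (Orb (autP P)) := (Nat.card_pos_iff.1 (by omega)).1
      have h := hrel i 1 (by simpa using hM.1.ne_one)
      rw [finsum_mem_eq_finite_toFinset_sum _ hXfin, ← Finset.add_sum_erase _ _ h1X, hempty,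
        Finset.sum_empty, hd1, Chars.oneChar_apply, h4, ← Chars.coe_charDegree] at h
      have h' : (4 * d₀ - d₀) * (charDegree (ζ i : G → ℂ) : ℤ) + 1 = 0 := by
        exact_mod_cast (by push_cast; linear_combination h :
          ((((4 * d₀ - d₀) * (charDegree (ζ i : G → ℂ) : ℤ) + 1 : ℤ)) : ℂ) = 0)
      rcases hδ with rfl | rfl <;> omega
  obtain ⟨ζ', δ', hδ', hinj', hrange, hsum2, hY', hrel'⟩ := hcase
  obtain ⟨hpm, hcard⟩ := ZStar.pm_one_of_sum_sq _ d hsum2 (by norm_num)
  rw [Finset.filter_true_of_mem hsq] at hcard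
  obtain ⟨χ₂, χ₃, hne, hT2⟩ := Finset.card_eq_two.1 (by exact_mod_cast hcard :
    (T.erase (Chars.oneChar G)).card = 2)
  have h2 : χ₂ ∈ T.erase (Chars.oneChar G) := hT2 ▸ by simp
  have h3 : χ₃ ∈ T.erase (Chars.oneChar G) := hT2 ▸ by simp
  have hXset : X = {Chars.oneChar G, χ₂, χ₃} := by
    rw [← hXfin.coe_toFinset, ← hT, ← Finset.insert_erase h1X, hT2]
    simp
  have h2' := (Set.Finite.mem_toFinset _).1 (Finset.mem_of_mem_erase h2)
  have h3' := (Set.Finite.mem_toFinset _).1 (Finset.mem_of_mem_erase h3)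
  refine ⟨χ₂, χ₃, d χ₂, d χ₃, δ', ζ', hδ', hpm _ h2 (hsq _ h2), hpm _ h3 (hsq _ h3), hinj',
    Finset.ne_of_mem_erase h2, Finset.ne_of_mem_erase h3, hne, ?_, ?_, fun y hy =>
      ⟨(hX χ₂ h2'.1 h2'.2).2 y hy, (hX χ₃ h3'.1 h3'.2).2 y hy⟩, hY', ?_, hcnt, ?_⟩
  · rw [← hXset, hrange]
    exact Set.disjoint_sdiff_left
  · rw [← hXset, hrange, hXdef, Set.diff_union_of_subset (by rintro _ ⟨i, rfl⟩; exact hζB i)]
  · intro i j g hg
    obtain ⟨i', hi⟩ : ζ' i ∈ Set.range ζ := hrange ▸ ⟨i, rfl⟩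
    obtain ⟨j', hj⟩ : ζ' j ∈ Set.range ζ := hrange ▸ ⟨j, rfl⟩
    rw [← hi, ← hj]
    exact hagree i' j' g hg
  · intro i g hg
    rw [← hrel' i g hg, ← Finset.add_sum_erase _ _ h1X, hT2, Finset.sum_pair hne, hd1,
      Chars.oneChar_apply]
    push_cast
    ring

end CfsgLib.Blocks.AbelianFrobenius
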