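import Cfsg.Agent.Blocks.AbelianFrobenius.Principal

/-!
# Exceptional characters in the principal block

The principal block consists of a coherent family `ζ` indexed by the orbits of the normalizer on the
non-trivial linear characters of `P`, and characters constant on the non-identity `p`-elements.
-/

set_option autoImplicit false
open Cfsg CfsgLib
open CfsgLib.Blocks CfsgLib.Blocks.HeightZero

namespace CfsgLib.Blocks.AbelianFrobenius

universe u

variable {G : Type u} [Group G] [Fintype G] {p : ℕ} [Fact p.Prime] {M : Ideal AlgInt}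
  {P : Sylow p G} [hab : IsMulCommutative P]

/-- A member of the principal block does not vanish on all non-identity elements of `P`. -/
theorem exists_ne_zero (hM : IsPModular p M) (hfrob : Frob P) (hP : Nat.card (P : Subgroup G) ≠ 1)
    {χ : IrrCharacter G} (hχ : χ ∈ principalBlock M G) (hne : χ ≠ Chars.oneChar G) :
    ∃ y : (P : Subgroup G), (y : G) ≠ 1 ∧ (χ : G → ℂ) y ≠ 0 := by
  classical
  have := isMaximal_of_isPModular hM
  by_contra hcon
  push Not at hcon
  set S : Finset G := Finset.univ.filter fun g => ¬ p ∣ orderOf g with hS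
  have hvan : ∀ g ∉ S, (χ : G → ℂ) g = 0 := by
    intro g hg
    obtain ⟨u, hu⟩ := exists_isPPart (G := G) hM.1 g
    have hu1 : u ≠ 1 := by
      rintro rfl
      obtain ⟨s, hs, -, -, hreg⟩ := hu
      rw [one_mul] at hs
      exact hg (by rw [hS, Finset.mem_filter]; exact ⟨Finset.mem_univ _, hs ▸ hreg⟩)
    obtain ⟨s, -, -, hup, -⟩ := id hu
    obtain ⟨e, he⟩ := hup
    obtain ⟨Q, hQ⟩ := (IsPGroup.of_card (n := e) (by rw [Nat.card_zpowers, he]) :
      IsPGroup p (Subgroup.zpowers u)).exists_le_sylow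
    obtain ⟨x, hx⟩ := MulAction.exists_smul_eq G Q P
    have hmem : x * u * x⁻¹ ∈ (P : Subgroup G) := by
      rw [← hx, Sylow.smul_def]
      exact ⟨u, hQ (Subgroup.mem_zpowers u), rfl⟩
    have hne1 : x * u * x⁻¹ ≠ 1 := fun e => hu1 (conj_eq_one_iff.1 e)
    rw [← Chars.isClassFunction_coe χ g x,
      apply_section hM hfrob hχ (y := ⟨_, hmem⟩) (isPPart_conj hu x) hne1]
    exact hcon ⟨_, hmem⟩ hne1
  have hsum : ∑ g ∈ S, (χ : G → ℂ) g = 0 := by
    rw [Finset.sum_subset (Finset.subset_univ S) fun g _ hg => hvan g hg]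
    exact (Chars.sum_mul_map_inv χ (Chars.oneChar G)).trans (if_neg hne) |>.symm.trans
      (by simp [Chars.oneChar_apply]) |>.symm
  have hconj : ∀ x y : G, IsConj x y → x ∈ S → y ∈ S := by
    intro x y hxy hx
    obtain ⟨c, rfl⟩ := isConj_iff.1 hxy
    rw [hS, Finset.mem_filter] at hx ⊢
    exact ⟨Finset.mem_univ _, (isPRegular_conj_iff c x).2 hx.2⟩
  have h := PrincipalLinear.sum_normalized_sub_one hM hχ S hconj
  rw [Finset.sum_sub_distrib, ← Finset.sum_div, hsum, zero_div, zero_sub, Finset.sum_const,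
    nsmul_eq_mul, mul_one] at h
  have hdvd : p ∣ S.card := (memLocalIdeal_natCast_iff hM _).1 (by simpa using memLocalIdeal_neg h)
  -- `P` acts on the regular elements, fixing those of its centralizer
  let R := {g : G // ¬ p ∣ orderOf g}
  letI : MulAction (P : Subgroup G) R :=
    { smul := fun y g => ⟨(y : G) * g.1 * (y : G)⁻¹, (isPRegular_conj_iff (y : G) g.1).2 g.2⟩
      one_smul := fun g => Subtype.ext (by
        show ((1 : (P : Subgroup G)) : G) * g.1 * ((1 : (P : Subgroup G)) : G)⁻¹ = g.1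
        simp)
      mul_smul := fun a b g => Subtype.ext (by
        show ((a * b : (P : Subgroup G)) : G) * g.1 * ((a * b : (P : Subgroup G)) : G)⁻¹ =
          (a : G) * ((b : G) * g.1 * (b : G)⁻¹) * (a : G)⁻¹
        push_cast
        group) }
  have hcard : Nat.card R = S.card := by
    rw [Nat.card_eq_fintype_card, Fintype.card_subtype, hS]
  have hmod := P.2.card_modEq_card_fixedPoints R
  rw [hcard] at hmod
  have hdfix : p ∣ Nat.card (MulAction.fixedPoints (P : Subgroup G) R) :=
    (Nat.ModEq.dvd_iff hmod dvd_rfl).1 hdvd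
  haveI : Nontrivial (P : Subgroup G) :=
    Finite.one_lt_card_iff_nontrivial.1 (by
      have := Nat.card_pos (α := (P : Subgroup G))
      omega)
  obtain ⟨⟨y₀, hy₀⟩, hy₀'⟩ := exists_ne (1 : (P : Subgroup G))
  have hy₀1 : y₀ ≠ 1 := fun e => hy₀' (Subtype.ext e)
  obtain ⟨K, -, hKp, -, hKreg⟩ := exists_complement hfrob hy₀ hy₀1
  set L : Subgroup (Subgroup.centralizer ({y₀} : Set G)) :=
    (Subgroup.centralizer ((P : Subgroup G) : Set G)).subgroupOf
      (Subgroup.centralizer ({y₀} : Set G)) ⊓ K with hL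
  have hLp : ¬ p ∣ Nat.card L := fun h => hKp (h.trans (Subgroup.card_dvd_of_le inf_le_right))
  have hreg : ∀ l : L, ¬ p ∣ orderOf ((l : Subgroup.centralizer ({y₀} : Set G)) : G) := fun l hl => hLp (hl.trans (by
    rw [Subgroup.orderOf_coe, Subgroup.orderOf_coe]; exact orderOf_dvd_natCard _))
  have hmemC : ∀ g : MulAction.fixedPoints (P : Subgroup G) R,
      g.1.1 ∈ Subgroup.centralizer ((P : Subgroup G) : Set G) := by
    intro g
    refine Subgroup.mem_centralizer_iff.2 fun y hy => ?_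
    have h : y * g.1.1 * y⁻¹ = g.1.1 := congrArg Subtype.val (g.2 (⟨y, hy⟩ : (P : Subgroup G)))
    calc y * g.1.1 = y * g.1.1 * y⁻¹ * y := by group
      _ = g.1.1 * y := by rw [h]
  refine hLp (hdfix.trans (dvd_of_eq (Nat.card_congr ?_)))
  exact
    { toFun := fun g => ⟨⟨g.1.1, Subgroup.mem_centralizer_singleton_iff.2
          (Subgroup.mem_centralizer_iff.1 (hmemC g) y₀ hy₀).symm⟩,
        ⟨hmemC g, hKreg _ (by rw [Subgroup.orderOf_mk]; exact g.1.2)⟩⟩
      invFun := fun l => ⟨⟨(l : Subgroup.centralizer ({y₀} : Set G)), hreg l⟩, fun y => Subtype.ext (by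
        show (y : G) * ((l : Subgroup.centralizer ({y₀} : Set G)) : G) * (y : G)⁻¹ = ((l : Subgroup.centralizer ({y₀} : Set G)) : G)
        rw [Subgroup.mem_centralizer_iff.1 (show ((l : Subgroup.centralizer ({y₀} : Set G)) : G) ∈
          Subgroup.centralizer ((P : Subgroup G) : Set G) from l.2.1) y y.2, mul_inv_cancel_right])⟩
      left_inv := fun g => rfl
      right_inv := fun l => rfl }

set_option maxHeartbeats 1000000 in
/-- **The structure of the principal block.** -/
theorem exists_family (hM : IsPModular p M) (hfrob : Frob P)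
    (hm : Nat.card (autP P) + 1 < Nat.card (P : Subgroup G)) :
    ∃ (d : IrrCharacter G → ℤ) (δ d₀ : ℤ) (ζ : Orb (autP P) → IrrCharacter G),
      (δ = 1 ∨ δ = -1) ∧ Function.Injective ζ ∧ (∀ i, ζ i ∈ principalBlock M G) ∧
      (∀ i, d (ζ i) = d₀) ∧ Chars.oneChar G ∉ Set.range ζ ∧
      (∀ χ ∈ principalBlock M G, χ ∉ Set.range ζ → d χ ≠ 0 ∧
        ∀ y : (P : Subgroup G), (y : G) ≠ 1 → (χ : G → ℂ) y = (d χ : ℂ)) ∧
      (∀ i, ∀ y : (P : Subgroup G), (y : G) ≠ 1 → (ζ i : G → ℂ) y = (d₀ : ℂ) + (δ : ℂ) *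
        ∑ᶠ a : autP P, (Orb.rep (autP P) i ((a : MulAut (P : Subgroup G)) y) : ℂ)) ∧
      (∀ i j g, ¬ p ∣ orderOf g → (ζ i : G → ℂ) g = (ζ j : G → ℂ) g) ∧
      Nat.card (Orb (autP P)) * Nat.card (autP P) + 1 = Nat.card (P : Subgroup G) ∧
      ((d₀ - δ) ^ 2 + ((Nat.card (Orb (autP P)) : ℤ) - 1) * d₀ ^ 2 +
        ∑ᶠ χ ∈ principalBlock M G \ Set.range ζ, d χ ^ 2 = (Nat.card (autP P) : ℤ) + 1) ∧
      ∀ i g, ¬ p ∣ orderOf g →
        (((Nat.card (Orb (autP P)) : ℕ) : ℂ) * d₀ - δ) * (ζ i : G → ℂ) g +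
          ∑ᶠ χ ∈ principalBlock M G \ Set.range ζ, (d χ : ℂ) * (χ : G → ℂ) g = 0 := by
  classical
  have := isMaximal_of_isPModular hM
  set A := autP P with hA
  have hfpf : FPF A := fpf_autP hfrob
  haveI : Finite (MulAut (P : Subgroup G)) := Finite.of_injective _ DFunLike.coe_injective
  letI := Fintype.ofFinite A
  letI := Fintype.ofFinite (P : Subgroup G)
  letI := Fintype.ofFinite ((P : Subgroup G) →* ℂˣ)
  letI := Fintype.ofFinite (Orb A)
  set T := (principalBlock M G).toFinite.toFinset with hT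
  have hTm : ∀ χ, χ ∈ T ↔ χ ∈ principalBlock M G := fun χ => Set.Finite.mem_toFinset _
  choose c hexp hc using fun χ : IrrCharacter G => exists_mult (P := P) χ
  set q : ℂ := (Fintype.card (P : Subgroup G) : ℂ) with hq
  have hq0 : q ≠ 0 := Nat.cast_ne_zero.2 Fintype.card_ne_zero
  -- the two forms of a difference
  have hdiff : ∀ χ ψ φ, q * ((c χ ψ - c χ φ : ℤ) : ℂ) =
      ∑ y : (P : Subgroup G), (χ : G → ℂ) y * ((ψ y⁻¹ : ℂ) - φ y⁻¹) := by
    intro χ ψ φ
    push_cast
    simp only [mul_sub, Finset.sum_sub_distrib]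
    rw [hc, hc]
  have hdiff' : ∀ χ ψ φ, q * ((c χ ψ - c χ φ : ℤ) : ℂ) =
      ∑ y : (P : Subgroup G), (χ : G → ℂ) (y : G)⁻¹ * ((ψ y : ℂ) - φ y) := by
    intro χ ψ φ
    rw [hdiff]
    refine Fintype.sum_equiv (Equiv.inv _) _ _ fun y => ?_
    simp
  have hprod : ∀ ψ φ ψ' φ', ∑ χ ∈ T, (c χ ψ - c χ φ) * (c χ ψ' - c χ φ') =
      fixCount (A := A) ψ' ψ - fixCount (A := A) ψ' φ - fixCount (A := A) φ' ψ +
        fixCount (A := A) φ' φ := by
    intro ψ φ ψ' φ'
    apply Int.cast_injective (α := ℂ)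
    apply mul_left_cancel₀ (mul_ne_zero hq0 hq0)
    set f : ↥(P : Subgroup G) → ℂ := fun y => (ψ y⁻¹ : ℂ) - φ y⁻¹ with hf
    set g : ↥(P : Subgroup G) → ℂ := fun y => (ψ' y : ℂ) - φ' y with hg
    have hcol : ∀ y y', f y * g y' * ∑ χ ∈ T, (χ : G → ℂ) y * (χ : G → ℂ) (y' : G)⁻¹ =
        f y * g y' * (q * ∑ a : A, if (a : MulAut (P : Subgroup G)) y = y' then (1 : ℂ) else 0) := by
      intro y y'
      by_cases hy : (y : G) = 1
      · have : y = 1 := Subtype.ext hy
        simp [hf, this]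
      by_cases hy' : (y' : G) = 1
      · have : y' = 1 := Subtype.ext hy'
        simp [hg, this]
      rw [column hM hfrob hy hy', hq, Nat.card_eq_fintype_card]
    calc q * q * ((∑ χ ∈ T, (c χ ψ - c χ φ) * (c χ ψ' - c χ φ') : ℤ) : ℂ)
        = ∑ χ ∈ T, (∑ y : (P : Subgroup G), (χ : G → ℂ) y * f y) *
            (∑ y' : (P : Subgroup G), (χ : G → ℂ) (y' : G)⁻¹ * g y') := by
          rw [Int.cast_sum, Finset.mul_sum]
          refine Finset.sum_congr rfl fun χ _ => ?_
          rw [← hdiff, ← hdiff', Int.cast_mul]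
          ring
      _ = ∑ y, ∑ y', f y * g y' * ∑ χ ∈ T, (χ : G → ℂ) y * (χ : G → ℂ) (y' : G)⁻¹ := by
          simp only [Finset.sum_mul_sum]
          rw [Finset.sum_comm]
          refine Finset.sum_congr rfl fun y _ => ?_
          rw [Finset.sum_comm]
          refine Finset.sum_congr rfl fun y' _ => ?_
          rw [Finset.mul_sum]
          exact Finset.sum_congr rfl fun χ _ => by ring
      _ = ∑ y, ∑ y', f y * g y' *
            (q * ∑ a : A, if (a : MulAut (P : Subgroup G)) y = y' then (1 : ℂ) else 0) :=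
          Finset.sum_congr rfl fun y _ => Finset.sum_congr rfl fun y' _ => hcol y y'
      _ = q * ∑ y, f y * ∑ a : A, g ((a : MulAut (P : Subgroup G)) y) := by
          simp only [Finset.mul_sum]
          refine Finset.sum_congr rfl fun y _ => ?_
          rw [Finset.sum_comm]
          refine Finset.sum_congr rfl fun a _ => ?_
          rw [Finset.sum_eq_single ((a : MulAut (P : Subgroup G)) y) (fun y' _ h => by
            rw [if_neg (Ne.symm h)]; ring) (fun h => absurd (Finset.mem_univ _) h), if_pos rfl]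
          ring
      _ = _ := by
          simp only [hf, hg, Finset.sum_sub_distrib, sub_mul, mul_sub]
          simp only [mul_comm ((_ : ℂˣ) : ℂ) (∑ a : A, _), sum_twist_mul_inv, ← hq]
          push_cast
          ring
  have hreg : ∀ ψ φ g, ¬ p ∣ orderOf g →
      ∑ χ ∈ T, ((c χ ψ - c χ φ : ℤ) : ℂ) * (χ : G → ℂ) g = 0 := by
    intro ψ φ g hg
    apply mul_left_cancel₀ hq0
    rw [mul_zero, Finset.mul_sum]
    simp only [← mul_assoc, hdiff', Finset.sum_mul]
    rw [Finset.sum_comm]
    refine Finset.sum_eq_zero fun y _ => ?_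
    by_cases hy : (y : G) = 1
    · have : y = 1 := Subtype.ext hy
      simp [this]
    have hsing : p ∣ orderOf (y : G) := by
      obtain ⟨e, he⟩ := exists_orderOf y
      rcases e.eq_zero_or_pos with rfl | hpos
      · exact absurd (orderOf_eq_one_iff.1 (he.trans (pow_zero p))) hy
      · rw [he]; exact dvd_pow_self p hpos.ne'
    have h := sum_mul_inv_eq_zero_of_regular_of_singular hM
      (isIntegralSet_block hM isPBlock_principalBlock) hg hsing
    calc _ = ((ψ y : ℂ) - φ y) * ∑ χ ∈ T, (χ : G → ℂ) g * (χ : G → ℂ) (y : G)⁻¹ := by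
          rw [Finset.mul_sum]
          exact Finset.sum_congr rfl fun χ _ => by ring
      _ = 0 := by rw [h, mul_zero]
  have htw : ∀ χ, ∀ a ∈ A, ∀ ψ, c χ (twist a ψ) = c χ ψ := by
    rintro χ a ⟨n, hn⟩ ψ
    apply Int.cast_injective (α := ℂ)
    apply mul_left_cancel₀ hq0
    rw [hc, hc]
    refine Fintype.sum_equiv a.toEquiv _ _ fun y => ?_
    show (χ : G → ℂ) (y : G) * _ = (χ : G → ℂ) ((a y : (P : Subgroup G)) : G) * _
    rw [← hn, normalizerMonoidHom_coe, Chars.isClassFunction_coe χ]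
    simp
  -- counting orbits
  have hcnt : Nat.card (Orb A) * Nat.card A + 1 = Nat.card (P : Subgroup G) := by
    rw [← Nat.card_prod, Nat.card_congr (Equiv.ofBijective _ (twist_rep_bijective hfpf))]
    rw [Nat.card_eq_fintype_card, Fintype.card_subtype_compl, Fintype.card_subtype_eq,
      ← Nat.card_eq_fintype_card, Chars.card_monoidHom_units]
    have hb : commutator (P : Subgroup G) = ⊥ := commutator_eq_bot (G := ↥(P : Subgroup G))
    rw [hb, Subgroup.index_bot]
    have := Nat.card_pos (α := (P : Subgroup G))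
    omega
  have htwo : ∃ i j : Orb A, i ≠ j := by
    have : 1 < Nat.card (Orb A) := by
      by_contra h
      have : Nat.card (Orb A) * Nat.card A ≤ 1 * Nat.card A := Nat.mul_le_mul_right _ (by omega)
      omega
    rw [Finite.one_lt_card_iff_nontrivial] at this
    exact exists_pair_ne _
  obtain ⟨δ, ζ, hδ, hζinj, hζT, hζ⟩ := exists_signed_family T (fun χ i => c χ (Orb.rep A i))
    (fun χ => (charDegree (χ : G → ℂ) : ℤ)) (fun χ _ => by exact_mod_cast Chars.charDegree_pos χ)
    htwo (fun i j => by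
      apply Int.cast_injective (α := ℂ)
      rw [Int.cast_zero, ← hreg (Orb.rep A i) (Orb.rep A j) 1 (by simpa using hM.1.ne_one),
        Int.cast_sum]
      refine Finset.sum_congr rfl fun χ _ => ?_
      rw [Int.cast_mul, Int.cast_natCast, Chars.coe_charDegree]
      ring) (fun i j k l => by
      rw [hprod, fixCount_rep hfpf, fixCount_rep hfpf, fixCount_rep hfpf, fixCount_rep hfpf]
      simp only [eq_comm (a := k), eq_comm (a := l)]
      ring)
  have hδ2 : δ * δ = 1 := by rcases hδ with rfl | rfl <;> rfl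
  obtain ⟨i₀, -, -⟩ := id htwo
  haveI : Nonempty (Orb A) := ⟨i₀⟩
  set d : IrrCharacter G → ℤ := fun χ =>
    c χ 1 - (c χ (Orb.rep A i₀) - δ * if χ = ζ i₀ then 1 else 0) with hd
  have he : ∀ χ ∈ T, ∀ i, c χ (Orb.rep A i) - c χ 1 = δ * (if χ = ζ i then 1 else 0) - d χ := by
    intro χ hχ i
    have := hζ χ hχ i i₀
    simp only [hd]
    linear_combination this
  have hsame : ∀ j l, d (ζ j) = d (ζ l) := by
    intro j l
    have h := hprod (Orb.rep A i₀) 1 (Orb.rep A j) (Orb.rep A l)
    rw [fixCount_rep hfpf, fixCount_rep hfpf, fixCount_one_right (Orb.rep_ne_one A j),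
      fixCount_one_right (Orb.rep_ne_one A l), Finset.sum_congr rfl fun χ hχ => by
        rw [he χ hχ i₀, hζ χ hχ j l]] at h
    simp only [mul_sub, sub_mul, Finset.sum_sub_distrib, mul_ite, mul_one, mul_zero, ite_mul,
      zero_mul, Finset.sum_ite_eq', hζT, if_true] at h
    simp only [hζinj.eq_iff] at h
    rcases hδ with rfl | rfl <;> split_ifs at h <;> grind
  set d₀ := d (ζ i₀)
  have hval : ∀ χ ∈ T, ∀ y : (P : Subgroup G), (y : G) ≠ 1 → (χ : G → ℂ) y = (d χ : ℂ) + (δ : ℂ) *
      ∑ i : Orb A, (if χ = ζ i then (1 : ℂ) else 0) *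
        ∑ᶠ a : A, (Orb.rep A i ((a : MulAut (P : Subgroup G)) y) : ℂ) := by
    intro χ hχ y hy
    have hzero : ∑ ψ : (P : Subgroup G) →* ℂˣ, (ψ y : ℂ) = 0 := by
      obtain ⟨l, hl⟩ := Chars.exists_linChar_ne_one (G := (P : Subgroup G)) (g := y) (by
        rw [commutator_eq_bot (G := ↥(P : Subgroup G)), Subgroup.mem_bot]
        exact fun e => hy (congrArg Subtype.val e))
      have h := Equiv.sum_comp (Equiv.mulLeft l) fun ψ : (P : Subgroup G) →* ℂˣ => (ψ y : ℂ)
      simp only [Equiv.coe_mulLeft, MonoidHom.mul_apply, Units.val_mul, ← Finset.mul_sum] at h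
      have : ((l y : ℂ) - 1) * ∑ ψ : (P : Subgroup G) →* ℂˣ, (ψ y : ℂ) = 0 := by
        rw [sub_mul, one_mul, h, sub_self]
      exact (mul_eq_zero.1 this).resolve_left (sub_ne_zero.2 fun e => hl (Units.ext e))
    let e := Equiv.ofBijective _ (twist_rep_bijective hfpf)
    have hsplit : ∀ F : ((P : Subgroup G) →* ℂˣ) → ℂ,
        ∑ ψ, F ψ = F 1 + ∑ i : Orb A, ∑ a : A, F (twist (a : MulAut (P : Subgroup G)) (Orb.rep A i)) := by
      intro F
      rw [← Finset.add_sum_erase _ _ (Finset.mem_univ (1 : (P : Subgroup G) →* ℂˣ)),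
        Finset.sum_subtype (Finset.univ.erase 1) (p := fun ψ => ψ ≠ 1) (by simp) F,
        ← e.sum_comp, Fintype.sum_prod_type]
      rfl
    rw [hexp, hsplit]
    rw [hsplit] at hzero
    simp only [twist_apply, MonoidHom.one_apply, Units.val_one, mul_one] at hzero ⊢
    simp only [finsum_eq_sum_of_fintype]
    have hterm : ∀ i : Orb A, ∀ a : A, c χ (twist (a : MulAut (P : Subgroup G)) (Orb.rep A i)) =
        c χ 1 - d χ + δ * (if χ = ζ i then 1 else 0) := by
      intro i a
      rw [htw χ _ a.2]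
      linear_combination he χ hχ i
    simp only [hterm]
    push_cast
    simp only [add_mul, Finset.sum_add_distrib, ← Finset.mul_sum, mul_assoc]
    linear_combination ((c χ 1 : ℂ) - (d χ : ℂ)) * hzero
  have hTset : ∀ F : IrrCharacter G → ℤ, ∑ χ ∈ T, F χ =
      (∑ i : Orb A, F (ζ i)) + ∑ᶠ χ ∈ principalBlock M G \ Set.range ζ, F χ := by
    intro F
    rw [finsum_mem_eq_finite_toFinset_sum _ (Set.toFinite _),
      ← Finset.sum_image (g := ζ) (f := F) (s := Finset.univ) hζinj.injOn, ← Finset.sum_union]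
    · refine Finset.sum_congr ?_ fun _ _ => rfl
      ext χ
      simp only [Finset.mem_union, Finset.mem_image, Finset.mem_univ, true_and,
        Set.Finite.mem_toFinset, Set.mem_diff, Set.mem_range, hTm]
      constructor
      · intro h; by_cases h' : ∃ i, ζ i = χ
        · exact Or.inl h'
        · exact Or.inr ⟨h, h'⟩
      · rintro (⟨i, rfl⟩ | ⟨h, -⟩)
        · exact (hTm _).1 (hζT i)
        · exact h
    · rw [Finset.disjoint_left]
      intro χ hχ hχ'
      simp only [Finset.mem_image, Finset.mem_univ, true_and] at hχ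
      exact ((Set.Finite.mem_toFinset _).1 hχ').2 hχ
  have hTsetC : ∀ F : IrrCharacter G → ℂ, ∑ χ ∈ T, F χ =
      (∑ i : Orb A, F (ζ i)) + ∑ᶠ χ ∈ principalBlock M G \ Set.range ζ, F χ := by
    intro F
    rw [finsum_mem_eq_finite_toFinset_sum _ (Set.toFinite _),
      ← Finset.sum_image (g := ζ) (f := F) (s := Finset.univ) hζinj.injOn, ← Finset.sum_union]
    · refine Finset.sum_congr ?_ fun _ _ => rfl
      ext χ
      simp only [Finset.mem_union, Finset.mem_image, Finset.mem_univ, true_and,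
        Set.Finite.mem_toFinset, Set.mem_diff, Set.mem_range, hTm]
      constructor
      · intro h; by_cases h' : ∃ i, ζ i = χ
        · exact Or.inl h'
        · exact Or.inr ⟨h, h'⟩
      · rintro (⟨i, rfl⟩ | ⟨h, -⟩)
        · exact (hTm _).1 (hζT i)
        · exact h
    · rw [Finset.disjoint_left]
      intro χ hχ hχ'
      simp only [Finset.mem_image, Finset.mem_univ, true_and] at hχ
      exact ((Set.Finite.mem_toFinset _).1 hχ').2 hχ
  have hone : Chars.oneChar G ∉ Set.range ζ := by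
    rintro ⟨i, hi⟩
    obtain ⟨j, hj⟩ : ∃ j, j ≠ i := by
      obtain ⟨a, b, hab⟩ := htwo
      by_cases h : a = i
      · exact ⟨b, h ▸ hab.symm⟩
      · exact ⟨a, h⟩
    have h0 : ∀ k, c (Chars.oneChar G) (Orb.rep A k) = 0 := by
      intro k
      apply Int.cast_injective (α := ℂ)
      apply mul_left_cancel₀ hq0
      rw [hc, Int.cast_zero, mul_zero]
      have := sum_mul_inv (1 : (P : Subgroup G) →* ℂˣ) (Orb.rep A k)
      rw [if_neg (Orb.rep_ne_one A k).symm] at this
      simpa [Chars.oneChar_apply] using this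
    have h := hζ _ (hζT i) i j
    rw [if_pos rfl, if_neg fun e : ζ i = ζ j => hj (hζinj e).symm, hi, h0, h0] at h
    rcases hδ with rfl | rfl <;> omega
  refine ⟨d, δ, d₀, ζ, hδ, hζinj, fun i => (hTm _).1 (hζT i), fun i => hsame i i₀, hone,
    fun χ hχ hnot => ?_, fun i y hy => ?_, fun i j g hg => ?_, hcnt, ?_, fun i g hg => ?_⟩
  · have hv : ∀ y : (P : Subgroup G), (y : G) ≠ 1 → (χ : G → ℂ) y = (d χ : ℂ) := by
      intro y hy
      rw [hval χ ((hTm χ).2 hχ) y hy, Finset.sum_eq_zero fun i _ => by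
        rw [if_neg fun e => hnot ⟨i, e.symm⟩, zero_mul], mul_zero, add_zero]
    refine ⟨fun h0 => ?_, hv⟩
    by_cases h1 : χ = Chars.oneChar G
    · have : Nontrivial (P : Subgroup G) := Finite.one_lt_card_iff_nontrivial.1 (by omega)
      obtain ⟨y, hy⟩ := exists_ne (1 : (P : Subgroup G))
      have := hv y fun e => hy (Subtype.ext e)
      rw [h0, h1, Chars.oneChar_apply] at this
      simp at this
    · obtain ⟨y, hy, hy0⟩ := exists_ne_zero hM hfrob (by omega) hχ h1
      exact hy0 (by rw [hv y hy, h0, Int.cast_zero])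
  · rw [hval _ (hζT i) y hy, hsame i i₀, Finset.sum_eq_single i, if_pos rfl, one_mul]
    · intro j _ hj
      rw [if_neg fun e => hj (hζinj e).symm, zero_mul]
    · simp
  · have h := hreg (Orb.rep A i) (Orb.rep A j) g hg
    rw [Finset.sum_congr rfl fun χ hχ => by rw [hζ χ hχ i j]] at h
    push_cast at h
    simp only [mul_sub, sub_mul, Finset.sum_sub_distrib, mul_ite, mul_one, mul_zero, ite_mul,
      zero_mul, Finset.sum_ite_eq', hζT, if_true] at h
    have hδ0 : (δ : ℂ) ≠ 0 := by rcases hδ with rfl | rfl <;> simp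
    exact mul_left_cancel₀ hδ0 (sub_eq_zero.1 h)
  · have h := hprod (Orb.rep A i₀) 1 (Orb.rep A i₀) 1
    rw [fixCount_rep hfpf, if_pos rfl, fixCount_one_right (Orb.rep_ne_one A i₀),
      fixCount_one_left (Orb.rep_ne_one A i₀), fixCount_one_one,
      Finset.sum_congr rfl fun χ hχ => by rw [he χ hχ i₀], hTset] at h
    rw [finsum_mem_congr rfl fun χ (hχ : χ ∈ principalBlock M G \ Set.range ζ) => by
      rw [if_neg fun e => hχ.2 ⟨i₀, e.symm⟩]] at h
    rw [← Finset.add_sum_erase _ _ (Finset.mem_univ i₀), if_pos rfl,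
      Finset.sum_congr rfl fun i hi => by
        rw [if_neg fun e => Finset.ne_of_mem_erase hi (hζinj e), hsame i i₀],
      Finset.sum_const, Finset.card_erase_of_mem (Finset.mem_univ _), Finset.card_univ,
      ← Nat.card_eq_fintype_card, ← Nat.card_eq_fintype_card, nsmul_eq_mul,
      Nat.cast_sub Nat.card_pos] at h
    simp only [mul_zero, zero_sub, neg_mul_neg, mul_one] at h
    simp only [pow_two]
    push_cast at h
    linear_combination h
  · have h := hreg (Orb.rep A i) 1 g hg
    rw [Finset.sum_congr rfl fun χ hχ => by rw [he χ hχ i], hTsetC] at h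
    rw [finsum_mem_congr rfl fun χ (hχ : χ ∈ principalBlock M G \ Set.range ζ) => by
      rw [if_neg fun e => hχ.2 ⟨i, e.symm⟩]] at h
    have hsum : ∀ j, (ζ j : G → ℂ) g = (ζ i : G → ℂ) g := by
      intro j
      have h' := hreg (Orb.rep A j) (Orb.rep A i) g hg
      rw [Finset.sum_congr rfl fun χ hχ => by rw [hζ χ hχ j i]] at h'
      push_cast at h'
      simp only [mul_sub, sub_mul, Finset.sum_sub_distrib, mul_ite, mul_one, mul_zero, ite_mul,
        zero_mul, Finset.sum_ite_eq', hζT, if_true] at h'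
      have hδ0 : (δ : ℂ) ≠ 0 := by rcases hδ with rfl | rfl <;> simp
      exact mul_left_cancel₀ hδ0 (sub_eq_zero.1 h')
    simp only [hsum, fun j => hsame j i₀, hζinj.eq_iff] at h
    push_cast at h
    rw [finsum_mem_eq_finite_toFinset_sum _ (Set.toFinite _)] at h ⊢
    simp only [sub_mul, Finset.sum_sub_distrib, mul_ite, mul_one, mul_zero, ite_mul, zero_mul,
      Finset.sum_ite_eq, Finset.sum_ite_eq', Finset.mem_univ, if_true, Finset.sum_const,
      Finset.card_univ, ← Nat.card_eq_fintype_card, nsmul_eq_mul, zero_sub, neg_mul,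
      Finset.sum_neg_distrib] at h
    linear_combination -h

end CfsgLib.Blocks.AbelianFrobenius
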