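import Mathlib

/-!
# Signed basis behind an integral isometry on differences

Integer vectors `c x i` (`x` in a finite set `T`) whose differences `c · i - c · j` have the inner
products of differences of an orthonormal family and weight zero for a positive weight come from
signed basis vectors.
-/

set_option autoImplicit false

namespace CfsgLib.Blocks.AbelianFrobenius

variable {I : Type*} [DecidableEq I]

/-- A weight-zero integer vector of norm two is a difference of two basis vectors. -/
theorem exists_eq_sub (T : Finset I) (v : I → ℤ) (w : I → ℤ) (hw : ∀ x ∈ T, 0 < w x)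
    (h2 : ∑ x ∈ T, v x ^ 2 = 2) (h0 : ∑ x ∈ T, w x * v x = 0) :
    ∃ a ∈ T, ∃ b ∈ T, a ≠ b ∧
      ∀ x ∈ T, v x = (if x = a then 1 else 0) - (if x = b then 1 else 0) := by
  have hb : ∀ x ∈ T, v x = 0 ∨ v x = 1 ∨ v x = -1 := by
    intro x hx
    have h : v x ^ 2 ≤ 2 := h2 ▸ Finset.single_le_sum (fun y _ => sq_nonneg (v y)) hx
    have : v x ≤ 1 := by nlinarith
    have : -1 ≤ v x := by nlinarith
    omega
  set S := T.filter fun x => v x ≠ 0 with hS
  have hsq : ∀ x ∈ S, v x ^ 2 = 1 := by
    intro x hx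
    rw [hS, Finset.mem_filter] at hx
    rcases hb x hx.1 with h | h | h <;> simp_all
  have hcard : S.card = 2 := by
    have h : ∑ x ∈ S, v x ^ 2 = 2 := by
      rw [hS, Finset.sum_filter_of_ne (p := fun x => v x ≠ 0) fun x _ hx => fun e => hx (by simp [e])]
      exact h2
    rw [Finset.sum_congr rfl hsq, Finset.sum_const, nsmul_eq_mul, mul_one] at h
    exact_mod_cast h
  obtain ⟨a, b, hab, hSab⟩ := Finset.card_eq_two.1 hcard
  have hwsum : w a * v a + w b * v b = 0 := by
    have h : ∑ x ∈ S, w x * v x = 0 := by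
      rw [hS, Finset.sum_filter_of_ne (p := fun x => v x ≠ 0) fun x _ hx => fun e => hx (by simp [e])]
      exact h0
    rwa [hSab, Finset.sum_pair hab] at h
  have hmem : a ∈ S ∧ b ∈ S := by simp [hSab]
  rw [hS, Finset.mem_filter, Finset.mem_filter] at hmem
  obtain ⟨⟨haT, ha⟩, hbT, hbne⟩ := hmem
  have key : ∀ a b : I, a ∈ T → b ∈ T → a ≠ b → v a = 1 → v b = -1 →
      (∀ x ∈ T, x ≠ a → x ≠ b → v x = 0) →
      ∃ a' ∈ T, ∃ b' ∈ T, a' ≠ b' ∧
        ∀ x ∈ T, v x = (if x = a' then 1 else 0) - (if x = b' then 1 else 0) := by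
    intro a b ha hb hab h1 h2 hz
    refine ⟨a, ha, b, hb, hab, fun x hx => ?_⟩
    rcases eq_or_ne x a with rfl | hxa
    · simp [h1, hab]
    rcases eq_or_ne x b with rfl | hxb
    · simp [h2, hxa]
    simp [hxa, hxb, hz x hx hxa hxb]
  have hz : ∀ x ∈ T, x ≠ a → x ≠ b → v x = 0 := by
    intro x hx hxa hxb
    by_contra h
    have : x ∈ S := by rw [hS, Finset.mem_filter]; exact ⟨hx, h⟩
    simp [hSab, hxa, hxb] at this
  have pa := hw a haT
  have pb := hw b hbT
  rcases hb a haT with h | h | h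
  · exact absurd h ha
  · rcases hb b hbT with h' | h' | h'
    · exact absurd h' hbne
    · rw [h, h'] at hwsum; omega
    · exact key a b haT hbT hab h h' hz
  · rcases hb b hbT with h' | h' | h'
    · exact absurd h' hbne
    · exact key b a hbT haT (Ne.symm hab) h' h fun x hx h1 h2 => hz x hx h2 h1
    · rw [h, h'] at hwsum; omega

variable {R : Type*} [DecidableEq R]

/-- **Coherence**: the differences come from a signed injective family. -/
theorem exists_signed_family (T : Finset I) (c : I → R → ℤ) (w : I → ℤ)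
    (hw : ∀ x ∈ T, 0 < w x) (h2 : ∃ i j : R, i ≠ j)
    (hdeg : ∀ i j, ∑ x ∈ T, w x * (c x i - c x j) = 0)
    (hin : ∀ i j k l, ∑ x ∈ T, (c x i - c x j) * (c x k - c x l) =
      ((if i = k then 1 else 0) - (if i = l then 1 else 0)) -
        ((if j = k then 1 else 0) - (if j = l then 1 else 0))) :
    ∃ (δ : ℤ) (ζ : R → I), (δ = 1 ∨ δ = -1) ∧ Function.Injective ζ ∧ (∀ i, ζ i ∈ T) ∧
      ∀ x ∈ T, ∀ i j, c x i - c x j =
        δ * ((if x = ζ i then 1 else 0) - (if x = ζ j then 1 else 0)) := by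
  obtain ⟨i₀, i₁, hne⟩ := h2
  have hv : ∀ i : {i : R // i ≠ i₀}, ∃ a ∈ T, ∃ b ∈ T, a ≠ b ∧
      ∀ x ∈ T, c x i₀ - c x i.1 = (if x = a then 1 else 0) - (if x = b then 1 else 0) := by
    intro i
    refine exists_eq_sub T _ w hw ?_ (hdeg i₀ i.1)
    simp only [pow_two]
    rw [hin]
    simp [i.2, i.2.symm]
  choose a haT b hbT hab hv using hv
  have hrel : ∀ i j : {i : R // i ≠ i₀}, i ≠ j →
      (a i = a j ∧ b i ≠ b j) ∨ (b i = b j ∧ a i ≠ a j) := by
    intro i j hij
    have hij' : i.1 ≠ j.1 := fun e => hij (Subtype.ext e)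
    have h := hin i₀ i.1 i₀ j.1
    rw [Finset.sum_congr rfl fun x hx => by rw [hv i x hx, hv j x hx]] at h
    simp only [sub_mul, mul_sub, Finset.sum_sub_distrib, ite_mul, one_mul, zero_mul,
      Finset.sum_ite_eq', haT, hbT, if_true, i.2, i.2.symm, j.2.symm, hij', if_false] at h
    have := hab i
    have := hab j
    by_cases h1 : a i = a j <;> by_cases h2 : b i = b j <;> by_cases h3 : a i = b j <;>
      by_cases h4 : b i = a j <;> grind
  let one : {i : R // i ≠ i₀} := ⟨i₁, hne.symm⟩
  -- the finish, given a common head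
  have finish : ∀ (δ : ℤ) (z : I) (g : {i : R // i ≠ i₀} → I), (δ = 1 ∨ δ = -1) → z ∈ T →
      (∀ i, g i ∈ T) → (∀ i, g i ≠ z) → Function.Injective g →
      (∀ i : {i : R // i ≠ i₀}, ∀ x ∈ T, c x i₀ - c x i.1 =
        δ * ((if x = z then 1 else 0) - (if x = g i then 1 else 0))) →
      ∃ (δ : ℤ) (ζ : R → I), (δ = 1 ∨ δ = -1) ∧ Function.Injective ζ ∧ (∀ i, ζ i ∈ T) ∧
        ∀ x ∈ T, ∀ i j, c x i - c x j =
          δ * ((if x = ζ i then 1 else 0) - (if x = ζ j then 1 else 0)) := by
    intro δ z g hδ hz hg hgz hginj heq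
    let ζ : R → I := fun i => if h : i = i₀ then z else g ⟨i, h⟩
    have hζ0 : ∀ x ∈ T, ∀ i, c x i₀ - c x i =
        δ * ((if x = z then 1 else 0) - (if x = ζ i then 1 else 0)) := by
      intro x hx i
      by_cases h : i = i₀
      · simp [ζ, h]
      · simp only [ζ, dif_neg h]
        exact heq ⟨i, h⟩ x hx
    refine ⟨δ, ζ, hδ, ?_, ?_, ?_⟩
    · intro i j hij
      by_cases hi : i = i₀ <;> by_cases hj : j = i₀
      · rw [hi, hj]
      · simp only [ζ, dif_pos hi, dif_neg hj] at hij; exact absurd hij.symm (hgz _)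
      · simp only [ζ, dif_neg hi, dif_pos hj] at hij; exact absurd hij (hgz _)
      · simp only [ζ, dif_neg hi, dif_neg hj] at hij
        exact congrArg Subtype.val (hginj hij)
    · intro i
      by_cases h : i = i₀
      · simp [ζ, h, hz]
      · simp [ζ, h, hg]
    · intro x hx i j
      linear_combination hζ0 x hx j - hζ0 x hx i
  by_cases hA : ∀ j, a j = a one
  · refine finish 1 (a one) b (Or.inl rfl) (haT one) hbT (fun i => hA i ▸ (hab i).symm) ?_
      fun i x hx => by rw [hv i x hx, hA i, one_mul]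
    intro i j hij
    by_contra hne'
    rcases hrel i j hne' with ⟨-, h⟩ | ⟨-, h⟩
    · exact h hij
    · exact h ((hA i).trans (hA j).symm)
  · push_neg at hA
    obtain ⟨j, hj⟩ := hA
    have hj1 : j ≠ one := fun e => hj (by rw [e])
    have hbj : b j = b one := by
      rcases hrel j one hj1 with ⟨h, -⟩ | ⟨h, -⟩
      · exact absurd h hj
      · exact h
    have hB : ∀ k, b k = b one := by
      intro k
      rcases eq_or_ne k one with rfl | hk
      · rfl
      rcases hrel k one hk with ⟨hak, hbk⟩ | ⟨h, -⟩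
      · rcases eq_or_ne k j with rfl | hkj
        · exact absurd hak hj
        rcases hrel k j hkj with ⟨h, -⟩ | ⟨h, -⟩
        · exact absurd (h.symm.trans hak) hj
        · exact absurd (h.trans hbj) hbk
      · exact h
    refine finish (-1) (b one) a (Or.inr rfl) (hbT one) haT (fun i => hB i ▸ hab i) ?_
      fun i x hx => by rw [hv i x hx, hB i]; ring
    intro i k hik
    by_contra hne'
    rcases hrel i k hne' with ⟨-, h⟩ | ⟨-, h⟩
    · exact h ((hB i).trans (hB k).symm)
    · exact h hik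

end CfsgLib.Blocks.AbelianFrobenius
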