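import Cfsg.Agent.Eq.Def_Characters
import Cfsg.Agent.Chars.Basic

/-!
# A fixed-point-free group of automorphisms of an abelian group acting on linear characters

`mult χ ψ` is the multiplicity of `ψ` in a class function on the group, `fixCount A ψ' ψ` counts the
automorphisms in `A` carrying `ψ'` to `ψ`, and `Orb A` is the type of orbits on the non-trivial
characters.
-/

set_option autoImplicit false
open Cfsg CfsgLib

namespace CfsgLib.Blocks.AbelianFrobenius

universe u

variable {P : Type u} [Group P]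

/-- Precomposition with an automorphism. -/
def twist (a : MulAut P) (ψ : P →* ℂˣ) : P →* ℂˣ := ψ.comp a.toMonoidHom

@[simp] theorem twist_apply (a : MulAut P) (ψ : P →* ℂˣ) (y : P) : twist a ψ y = ψ (a y) := rfl

theorem twist_twist (a b : MulAut P) (ψ : P →* ℂˣ) : twist a (twist b ψ) = twist (b * a) ψ :=
  MonoidHom.ext fun _ => rfl

theorem twist_one (ψ : P →* ℂˣ) : twist (1 : MulAut P) ψ = ψ := MonoidHom.ext fun _ => rfl

theorem twist_trivial (a : MulAut P) : twist a (1 : P →* ℂˣ) = 1 := MonoidHom.ext fun _ => rfl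

theorem twist_eq_one_iff {a : MulAut P} {ψ : P →* ℂˣ} : twist a ψ = 1 ↔ ψ = 1 := by
  refine ⟨fun h => MonoidHom.ext fun y => ?_, fun h => h ▸ twist_trivial a⟩
  have := DFunLike.congr_fun h (a.symm y)
  simpa using this

variable (A : Subgroup (MulAut P))

/-- `A` fixes only the identity. -/
def FPF : Prop := ∀ a ∈ A, a ≠ 1 → ∀ y : P, a y = y → y = 1

variable {A}

/-- Free action on the non-trivial linear characters. -/
theorem eq_one_of_twist_eq [Finite P] (hA : FPF A) {a : MulAut P} (ha : a ∈ A) {ψ : P →* ℂˣ}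
    (hψ : ψ ≠ 1) (h : twist a ψ = ψ) : a = 1 := by
  by_contra hne
  apply hψ
  have hinj : Function.Injective fun y : P => y⁻¹ * a y := by
    intro y z hyz
    have h1 : a (z * y⁻¹) = z * y⁻¹ := by
      rw [map_mul, map_inv]
      simp only at hyz
      calc a z * (a y)⁻¹ = z * (z⁻¹ * a z) * (a y)⁻¹ := by group
        _ = z * (y⁻¹ * a y) * (a y)⁻¹ := by rw [hyz]
        _ = z * y⁻¹ := by group
    have := hA a ha hne _ h1
    exact (mul_inv_eq_one.1 this).symm
  refine MonoidHom.ext fun y => ?_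
  obtain ⟨z, rfl⟩ := (Finite.injective_iff_surjective.1 hinj) y
  have := DFunLike.congr_fun h z
  simp only [twist_apply] at this
  simp [this]

theorem twist_injOn [Finite P] (hA : FPF A) {ψ : P →* ℂˣ} (hψ : ψ ≠ 1) {a b : MulAut P}
    (ha : a ∈ A) (hb : b ∈ A) (h : twist a ψ = twist b ψ) : a = b := by
  have := eq_one_of_twist_eq hA (A.mul_mem ha (A.inv_mem hb)) hψ (by
    rw [← twist_twist, h, twist_twist, mul_inv_cancel, twist_one])
  exact mul_inv_eq_one.1 this

open scoped Classical in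
/-- The number of elements of `A` carrying `ψ'` to `ψ`. -/
noncomputable def fixCount [Fintype A] (ψ' ψ : P →* ℂˣ) : ℤ :=
  ∑ a : A, if twist (a : MulAut P) ψ' = ψ then 1 else 0

/-- Orthogonality of linear characters. -/
theorem sum_mul_inv [Fintype P] [DecidableEq (P →* ℂˣ)] (φ ψ : P →* ℂˣ) :
    ∑ y : P, (φ y : ℂ) * (ψ y⁻¹ : ℂ) = if φ = ψ then (Fintype.card P : ℂ) else 0 := by
  classical
  have h : ∀ y, (φ y : ℂ) * (ψ y⁻¹ : ℂ) = (((Units.coeHom ℂ).comp (φ * ψ⁻¹)) y : ℂ) := by
    intro y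
    simp
  rw [Finset.sum_congr rfl fun y _ => h y, sum_hom_units]
  by_cases hc : φ = ψ
  · subst hc; simp [show (Units.coeHom ℂ).comp (φ * φ⁻¹) = 1 from by ext y; simp]
  · rw [if_neg hc, if_neg, Nat.cast_zero]
    intro hne
    apply hc
    refine MonoidHom.ext fun y => ?_
    have := DFunLike.congr_fun hne y
    simp only [MonoidHom.coe_comp, Function.comp_apply, Units.coeHom_apply, MonoidHom.mul_apply,
      MonoidHom.inv_apply, MonoidHom.one_apply, Units.val_eq_one] at this
    exact mul_inv_eq_one.1 this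

theorem sum_twist_mul_inv [Fintype P] [Fintype A] (ψ' ψ : P →* ℂˣ) :
    ∑ y : P, (∑ a : A, (ψ' ((a : MulAut P) y) : ℂ)) * (ψ y⁻¹ : ℂ) =
      (Fintype.card P : ℂ) * (fixCount (A := A) ψ' ψ : ℂ) := by
  classical
  simp only [Finset.sum_mul]
  rw [Finset.sum_comm, fixCount, Int.cast_sum, Finset.mul_sum]
  refine Finset.sum_congr rfl fun a _ => ?_
  have := sum_mul_inv (twist (a : MulAut P) ψ') ψ
  simp only [twist_apply] at this
  rw [this]
  split_ifs <;> simp

theorem fixCount_one_one [Fintype A] : fixCount (A := A) (1 : P →* ℂˣ) 1 = Fintype.card A := by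
  simp [fixCount, twist_trivial]

theorem fixCount_one_left [Fintype A] {ψ : P →* ℂˣ} (hψ : ψ ≠ 1) :
    fixCount (A := A) (1 : P →* ℂˣ) ψ = 0 := by
  simp [fixCount, twist_trivial, hψ.symm]

theorem fixCount_one_right [Fintype A] {ψ : P →* ℂˣ} (hψ : ψ ≠ 1) :
    fixCount (A := A) ψ 1 = 0 := by
  simp [fixCount, twist_eq_one_iff, hψ]

variable (A)

/-- Lying in one orbit. -/
def orbSetoid : Setoid {ψ : P →* ℂˣ // ψ ≠ 1} where
  r φ ψ := ∃ a ∈ A, twist a φ.1 = ψ.1
  iseqv := by
    refine ⟨fun φ => ⟨1, A.one_mem, twist_one _⟩, ?_, ?_⟩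
    · rintro φ ψ ⟨a, ha, h⟩
      exact ⟨a⁻¹, A.inv_mem ha, by rw [← h, twist_twist, mul_inv_cancel, twist_one]⟩
    · rintro φ ψ χ ⟨a, ha, h⟩ ⟨b, hb, h'⟩
      exact ⟨a * b, A.mul_mem ha hb, by rw [← twist_twist, h, h']⟩

/-- Orbits on non-trivial linear characters. -/
abbrev Orb := Quotient (orbSetoid A)

/-- A representative of an orbit. -/
noncomputable def Orb.rep (i : Orb A) : P →* ℂˣ := (Quotient.out i).1

theorem Orb.rep_ne_one (i : Orb A) : Orb.rep A i ≠ 1 := (Quotient.out i).2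

theorem Orb.mk_twist_rep (i : Orb A) {a : MulAut P} (ha : a ∈ A)
    (h : twist a (Orb.rep A i) ≠ 1) : Quotient.mk (orbSetoid A) ⟨_, h⟩ = i := by
  conv_rhs => rw [← Quotient.out_eq i]
  exact (Quotient.sound (s := orbSetoid A) ⟨a, ha, rfl⟩).symm

theorem Orb.exists_twist_rep {ψ : P →* ℂˣ} (hψ : ψ ≠ 1) :
    ∃ (i : Orb A), ∃ a ∈ A, twist a (Orb.rep A i) = ψ := by
  refine ⟨Quotient.mk (orbSetoid A) ⟨ψ, hψ⟩, ?_⟩
  exact Quotient.mk_out (s := orbSetoid A) (⟨ψ, hψ⟩ : {ψ : P →* ℂˣ // ψ ≠ 1})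

variable {A}

theorem Orb.eq_of_twist {i j : Orb A} {a : MulAut P} (ha : a ∈ A)
    (h : twist a (Orb.rep A i) = Orb.rep A j) : i = j := by
  have h1 := Orb.mk_twist_rep A i ha (by rw [h]; exact Orb.rep_ne_one A j)
  rw [← h1]
  conv_rhs => rw [← Quotient.out_eq j]
  exact congrArg _ (Subtype.ext h)

theorem fixCount_rep [Finite P] [Fintype A] [DecidableEq (Orb A)] (hA : FPF A) (i j : Orb A) :
    fixCount (A := A) (Orb.rep A i) (Orb.rep A j) = if i = j then 1 else 0 := by
  classical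
  unfold fixCount
  by_cases h : i = j
  · subst h
    rw [if_pos rfl, Finset.sum_eq_single (1 : A)]
    · simp [twist_one]
    · intro b _ hb
      rw [if_neg]
      intro e
      exact hb (Subtype.ext (eq_one_of_twist_eq hA b.2 (Orb.rep_ne_one A i) e))
    · simp
  · rw [if_neg h]
    refine Finset.sum_eq_zero fun a _ => if_neg fun e => h (Orb.eq_of_twist a.2 e)

/-- The characters outside the trivial one, by orbits. -/
theorem twist_rep_bijective [Finite P] (hA : FPF A) :
    Function.Bijective fun x : Orb A × A =>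
      (⟨twist (x.2 : MulAut P) (Orb.rep A x.1), fun e => Orb.rep_ne_one A x.1
        (twist_eq_one_iff.1 e)⟩ : {ψ : P →* ℂˣ // ψ ≠ 1}) := by
  refine ⟨?_, fun ψ => ?_⟩
  · rintro ⟨i, a⟩ ⟨j, b⟩ h
    have h' := congrArg Subtype.val h
    simp only at h'
    have hij : i = j := by
      refine Orb.eq_of_twist (A.mul_mem a.2 (A.inv_mem b.2)) ?_
      rw [← twist_twist] at *
      have := congrArg (twist (b : MulAut P)⁻¹) h'
      simpa [twist_twist, twist_one] using this
    subst hij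
    exact Prod.ext rfl (Subtype.ext (twist_injOn hA (Orb.rep_ne_one A i) a.2 b.2 h'))
  · obtain ⟨i, a, ha, h⟩ := Orb.exists_twist_rep A ψ.2
    exact ⟨(i, ⟨a, ha⟩), Subtype.ext h⟩

end CfsgLib.Blocks.AbelianFrobenius
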