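import Cfsg.Agent.Blocks.AbelianFrobenius.IndexThree

/-!
# An involution generating normally, Frobenius normalizer of index three

Signs and degrees in the principal block when an involution lies in no proper normal subgroup.
-/

set_option autoImplicit false
open Cfsg CfsgLib
open CfsgLib.Blocks CfsgLib.Blocks.HeightZero

namespace CfsgLib.Blocks.AbelianFrobenius

universe u

variable {G : Type u} [Group G] [Fintype G] {p : ℕ} [Fact p.Prime] {M : Ideal AlgInt}
  {P : Sylow p G} [hab : IsMulCommutative P]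

omit [Fintype G] in
/-- In an abelian Sylow subgroup with `|N/C| = 3` only elements of exponent two are real. -/
theorem sq_eq_one_of_isConj_inv [Finite G] (hA3 : Nat.card (autP P) = 3) {y : (P : Subgroup G)}
    (h : IsConj (y : G) (y : G)⁻¹) : y * y = 1 := by
  obtain ⟨g, hg⟩ := isConj_iff.1 h
  obtain ⟨n, hn, hn'⟩ := P.conj_eq_normalizer_conj_of_mem (y : G) g⁻¹ y.2
    (by rw [inv_inv, hg]; exact inv_mem y.2)
  rw [inv_inv, hg] at hn'
  set a : MulAut (P : Subgroup G) :=
    (P : Subgroup G).normalizerMonoidHom ⟨n⁻¹, inv_mem hn⟩ with ha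
  have hay : a y = y⁻¹ := Subtype.ext (by
    rw [ha, normalizerMonoidHom_coe, Subgroup.coe_inv, hn']
    show n⁻¹ * (y : G) * n⁻¹⁻¹ = _
    rw [inv_inv])
  have h3 : a ^ 3 = 1 := by
    have := pow_card_eq_one' (x := (⟨a, ⟨_, rfl⟩⟩ : autP P))
    rw [hA3] at this
    exact congrArg Subtype.val this
  have h3' : y⁻¹ = y := by
    have h' := DFunLike.congr_fun h3 y
    simpa [pow_succ, hay, map_inv] using h'
  calc y * y = y * y⁻¹ := by rw [h3']
    _ = 1 := mul_inv_cancel y

/-- An involution of `P` and an element of `P` that no product of two conjugates of it hits. -/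
theorem exists_avoided (hfrob : Frob P) (hp2 : p = 2) (hA3 : Nat.card (autP P) = 3)
    (hm : 16 ≤ Nat.card (P : Subgroup G)) {t : (P : Subgroup G)} (ht : orderOf (t : G) = 2) :
    ∃ y : (P : Subgroup G), (y : G) ≠ 1 ∧
      (∀ a b : autP P, (a : MulAut (P : Subgroup G)) t * (b : MulAut (P : Subgroup G)) t * y ≠ 1) ∧
      ∀ a u : G, IsPPart p ((t : G) * (a * t * a⁻¹)) u → ¬ IsConj (y : G) u := by
  classical
  subst hp2
  haveI : Finite (MulAut (P : Subgroup G)) := Finite.of_injective _ DFunLike.coe_injective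
  letI := Fintype.ofFinite (autP P)
  letI := Fintype.ofFinite (P : Subgroup G)
  set S : Finset (P : Subgroup G) := insert 1 (Finset.univ.image fun ab : autP P × autP P =>
    (ab.1 : MulAut (P : Subgroup G)) t * (ab.2 : MulAut (P : Subgroup G)) t) with hS
  have hlt : S.card < Fintype.card (P : Subgroup G) := by
    refine lt_of_le_of_lt ((Finset.card_insert_le _ _).trans (Nat.succ_le_succ
      Finset.card_image_le)) ?_
    rw [Finset.card_univ, Fintype.card_prod, ← Nat.card_eq_fintype_card, ← Nat.card_eq_fintype_card,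
      hA3]
    omega
  obtain ⟨y, -, hy⟩ := Finset.exists_mem_notMem_of_card_lt_card (s := S) (t := Finset.univ)
    (by rw [Finset.card_univ]; exact hlt)
  simp only [hS, Finset.mem_insert, Finset.mem_image, Finset.mem_univ, true_and, not_or,
    not_exists] at hy
  obtain ⟨hy1, hyS⟩ := hy
  have hy1' : (y : G) ≠ 1 := fun e => hy1 (Subtype.ext e)
  have htG : (t : G) * t = 1 := by
    have := pow_orderOf_eq_one (t : G)
    rwa [ht, sq] at this
  have htt : t * t = 1 := Subtype.ext htG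
  have hinv : ∀ a : autP P, ((a : MulAut (P : Subgroup G)) t)⁻¹ = (a : MulAut (P : Subgroup G)) t :=
    fun a => inv_eq_of_mul_eq_one_right (by rw [← map_mul, htt, map_one])
  refine ⟨y, hy1', fun a b h => ?_, ?_⟩
  · refine hyS (b, a) ?_
    have h' : y = ((a : MulAut (P : Subgroup G)) t * (b : MulAut (P : Subgroup G)) t)⁻¹ :=
      eq_inv_of_mul_eq_one_right h
    rw [h', mul_inv_rev, hinv, hinv]
  intro a u hu hyu
  -- `t` inverts the product, so `y` is real, hence an involution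
  have htx : IsConj u u⁻¹ := by
    have h1 := isPPart_conj hu (t : G)
    have hx : (t : G) * ((t : G) * (a * t * a⁻¹)) * (t : G)⁻¹ = ((t : G) * (a * t * a⁻¹))⁻¹ := by
      rw [show (t : G)⁻¹ = t from inv_eq_of_mul_eq_one_right htG]
      simp only [mul_inv_rev, inv_inv, show (t : G)⁻¹ = t from inv_eq_of_mul_eq_one_right htG]
      rw [← mul_assoc (t : G) (t : G), htG, one_mul]
      simp only [mul_assoc]
    rw [hx] at h1
    obtain ⟨k, hk⟩ := exists_pow_eq_isPPart (G := G) (Nat.prime_two)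
    refine isConj_iff.2 ⟨t, ?_⟩
    rw [← hk _ _ h1, ← hk _ _ hu, inv_pow]
  obtain ⟨c, hc⟩ := isConj_iff.1 hyu
  have hyy : y * y = 1 := by
    refine sq_eq_one_of_isConj_inv hA3 (hyu.trans (htx.trans (isConj_iff.2 ⟨c⁻¹, ?_⟩)))
    rw [← hc]
    group
  -- conjugate so that the `2`-part is `y`
  set t₁ := c⁻¹ * (t : G) * c with ht₁
  set b₁ := c⁻¹ * (a * (t : G) * a⁻¹) * c with hb₁
  have hu₁ : IsPPart 2 (t₁ * b₁) (y : G) := by
    have h1 := isPPart_conj hu c⁻¹
    rw [show c⁻¹ * ((t : G) * (a * t * a⁻¹)) * c⁻¹⁻¹ = t₁ * b₁ by rw [ht₁, hb₁]; group,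
      show c⁻¹ * u * c⁻¹⁻¹ = (y : G) by rw [← hc]; group] at h1
    exact h1
  have htt₁ : t₁ * t₁ = 1 := by
    rw [ht₁]
    calc c⁻¹ * (t : G) * c * (c⁻¹ * t * c) = c⁻¹ * ((t : G) * t) * c := by group
      _ = 1 := by rw [htG]; group
  have hbb₁ : b₁ * b₁ = 1 := by
    rw [hb₁]
    calc c⁻¹ * (a * (t : G) * a⁻¹) * c * (c⁻¹ * (a * t * a⁻¹) * c) =
          c⁻¹ * a * ((t : G) * t) * a⁻¹ * c := by group
      _ = 1 := by rw [htG]; group
  obtain ⟨k, hk⟩ := exists_pow_eq_isPPart (G := G) (Nat.prime_two)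
  have hcy : Commute t₁ (y : G) := by
    have hx : t₁ * (t₁ * b₁) * t₁⁻¹ = (t₁ * b₁)⁻¹ := by
      rw [← mul_assoc, htt₁, one_mul, mul_inv_rev t₁ b₁, inv_eq_of_mul_eq_one_right hbb₁]
    have h1 := isPPart_conj hu₁ t₁
    rw [hx] at h1
    have h2 : t₁ * (y : G) * t₁⁻¹ = (y : G)⁻¹ := by rw [← hk _ _ h1, ← hk _ _ hu₁, inv_pow]
    rw [show (y : G)⁻¹ = y from inv_eq_of_mul_eq_one_right (congrArg Subtype.val hyy)] at h2
    exact mul_inv_eq_iff_eq_mul.1 h2
  have hcb : Commute b₁ (y : G) := by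
    obtain ⟨s, hs, hcomm, -⟩ := id hu₁
    have hxy : Commute (t₁ * b₁) (y : G) := by rw [← hs]; exact (Commute.refl _).mul_left hcomm.symm
    have := hcy.mul_left hxy
    rwa [← mul_assoc, htt₁, one_mul] at this
  -- pass to the abelian quotient of `C(y)`
  obtain ⟨K, hKn, hKp, hKi, hKreg⟩ := exists_complement hfrob y.2 hy1'
  have hle : (P : Subgroup G) ≤ Subgroup.centralizer ({(y : G)} : Set G) := fun z hz =>
    Subgroup.mem_centralizer_singleton_iff.2
      (congrArg Subtype.val (hab.is_comm.comm (⟨z, hz⟩ : (P : Subgroup G)) y))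
  set π : (P : Subgroup G) →* (Subgroup.centralizer ({(y : G)} : Set G)) ⧸ K :=
    (QuotientGroup.mk' K).comp (Subgroup.inclusion hle) with hπ
  have hπinj : Function.Injective π := by
    rw [injective_iff_map_eq_one]
    intro z hz
    rw [hπ, MonoidHom.comp_apply, QuotientGroup.mk'_apply, QuotientGroup.eq_one_iff] at hz
    obtain ⟨e, he⟩ := exists_orderOf z
    have hdvd : orderOf (z : G) ∣ Nat.card K := by
      have h := orderOf_dvd_natCard (⟨_, hz⟩ : K)
      rwa [← Subgroup.orderOf_coe, ← Subgroup.orderOf_coe, Subgroup.coe_inclusion] at h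
    rw [he] at hdvd
    rcases e.eq_zero_or_pos with rfl | hpos
    · exact Subtype.ext (orderOf_eq_one_iff.1 (he.trans (pow_zero 2)))
    · exact absurd ((dvd_pow_self 2 hpos.ne').trans hdvd) hKp
  have hπsurj : Function.Surjective π :=
    ((Nat.bijective_iff_injective_and_card π).2 ⟨hπinj, by
      rw [← hKi, Subgroup.index]⟩).2
  have hcomm : ∀ x z : (Subgroup.centralizer ({(y : G)} : Set G)) ⧸ K, x * z = z * x := by
    intro x z
    obtain ⟨x, rfl⟩ := hπsurj x
    obtain ⟨z, rfl⟩ := hπsurj z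
    rw [← map_mul, ← map_mul, hab.is_comm.comm x z]
  -- an involution of `C(y)` has the image of one of its conjugates in `P`
  have himg : ∀ (b : G) (hb : b ∈ Subgroup.centralizer ({(y : G)} : Set G)), b * b = 1 →
      IsConj (t : G) b → ∃ e : autP P,
        π ((e : MulAut (P : Subgroup G)) t) = QuotientGroup.mk' K ⟨b, hb⟩ := by
    intro b hb hbb hbt
    set b' : Subgroup.centralizer ({(y : G)} : Set G) := ⟨b, hb⟩ with hb'
    have hpg : IsPGroup 2 (Subgroup.zpowers b') := by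
      obtain ⟨e, -, he⟩ := (Nat.dvd_prime_pow Nat.prime_two (i := orderOf b') (m := 1)).1
        (orderOf_dvd_of_pow_eq_one (Subtype.ext (by simpa [sq] using hbb)))
      exact IsPGroup.of_card (n := e) (by rw [Nat.card_zpowers, he])
    obtain ⟨Q, hQ⟩ := hpg.exists_le_sylow
    obtain ⟨g, hg⟩ := MulAction.exists_smul_eq (Subgroup.centralizer ({(y : G)} : Set G)) Q
      (P.subtype hle)
    have hmem : g * b' * g⁻¹ ∈ (P.subtype hle : Subgroup _) := by
      rw [← hg, Sylow.smul_def]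
      exact ⟨b', hQ (Subgroup.mem_zpowers b'), rfl⟩
    rw [Sylow.coe_subtype, Subgroup.mem_subgroupOf] at hmem
    obtain ⟨d, hd⟩ := isConj_iff.1 (hbt.trans (isConj_iff.2 ⟨(g : G), rfl⟩))
    push_cast at hmem hd
    rw [hb'] at hmem
    obtain ⟨n, hn, hn'⟩ := P.conj_eq_normalizer_conj_of_mem (t : G) d⁻¹ t.2
      (by rw [inv_inv, hd]; exact hmem)
    rw [inv_inv, hd] at hn'
    refine ⟨⟨_, ⟨⟨n⁻¹, inv_mem hn⟩, rfl⟩⟩, ?_⟩
    have hval : (P : Subgroup G).normalizerMonoidHom ⟨n⁻¹, inv_mem hn⟩ t =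
        ⟨(g : G) * b * (g : G)⁻¹, hmem⟩ := Subtype.ext (by
      rw [normalizerMonoidHom_coe]
      show n⁻¹ * (t : G) * n⁻¹⁻¹ = _
      rw [inv_inv, ← hn'])
    rw [hval, hπ, MonoidHom.comp_apply]
    have hincl : Subgroup.inclusion hle ⟨(g : G) * b * (g : G)⁻¹, hmem⟩ = g * b' * g⁻¹ :=
      Subtype.ext rfl
    rw [hincl, map_mul, map_mul, hcomm (QuotientGroup.mk' K g), map_inv, mul_inv_cancel_right]
  obtain ⟨e₁, he₁⟩ := himg t₁ (Subgroup.mem_centralizer_singleton_iff.2 hcy.eq) htt₁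
    (isConj_iff.2 ⟨c⁻¹, by rw [ht₁]; group⟩)
  obtain ⟨e₂, he₂⟩ := himg b₁ (Subgroup.mem_centralizer_singleton_iff.2 hcb.eq) hbb₁
    (isConj_iff.2 ⟨c⁻¹ * a, by rw [hb₁]; group⟩)
  refine hyS (e₁, e₂) (hπinj ?_)
  rw [map_mul, he₁, he₂, ← map_mul]
  obtain ⟨s, hs, hscomm, -, hsreg⟩ := hu₁
  have hsC : s ∈ Subgroup.centralizer ({(y : G)} : Set G) :=
    Subgroup.mem_centralizer_singleton_iff.2 hscomm.symm.eq
  rw [hπ, MonoidHom.comp_apply, QuotientGroup.mk'_apply, QuotientGroup.mk'_apply, QuotientGroup.eq]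
  have : (⟨t₁, Subgroup.mem_centralizer_singleton_iff.2 hcy.eq⟩ *
      ⟨b₁, Subgroup.mem_centralizer_singleton_iff.2 hcb.eq⟩)⁻¹ * Subgroup.inclusion hle y =
      (⟨s, hsC⟩ : Subgroup.centralizer ({(y : G)} : Set G))⁻¹ := Subtype.ext (by
    push_cast
    rw [← hs, Subgroup.coe_inclusion]
    group)
  rw [this]
  exact inv_mem (hKreg _ (by rwa [Subgroup.orderOf_mk]))

set_option maxHeartbeats 1000000 in
/-- **Signs and degrees** when an involution lies in no proper normal subgroup. -/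
theorem three_signs_square (hM : IsPModular p M) (hfrob : Frob P)
    (hA3 : Nat.card (autP P) = 3) (hm : 4 < Nat.card (P : Subgroup G))
    {χ₂ χ₃ : IrrCharacter G} {a₂ a₃ δ : ℤ} {ζ : Orb (autP P) → IrrCharacter G}
    (hδ : δ = 1 ∨ δ = -1) (ha₂ : a₂ = 1 ∨ a₂ = -1) (ha₃ : a₃ = 1 ∨ a₃ = -1)
    (hinj : Function.Injective ζ) (h21 : χ₂ ≠ Chars.oneChar G) (h31 : χ₃ ≠ Chars.oneChar G)
    (h23 : χ₂ ≠ χ₃)
    (hdisj : Disjoint ({Chars.oneChar G, χ₂, χ₃} : Set (IrrCharacter G)) (Set.range ζ))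
    (hB : principalBlock M G = {Chars.oneChar G, χ₂, χ₃} ∪ Set.range ζ)
    (hv : ∀ y : (P : Subgroup G), (y : G) ≠ 1 →
      (χ₂ : G → ℂ) y = (a₂ : ℂ) ∧ (χ₃ : G → ℂ) y = (a₃ : ℂ))
    (hY : ∀ i, ∀ y : (P : Subgroup G), (y : G) ≠ 1 → (ζ i : G → ℂ) y = (δ : ℂ) *
        ∑ᶠ a : autP P, (Orb.rep (autP P) i ((a : MulAut (P : Subgroup G)) y) : ℂ))
    (hagree : ∀ i j g, ¬ p ∣ orderOf g → (ζ i : G → ℂ) g = (ζ j : G → ℂ) g)
    (hcnt : Nat.card (Orb (autP P)) * 3 + 1 = Nat.card (P : Subgroup G))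
    (hrel : ∀ i g, ¬ p ∣ orderOf g →
      1 + (a₂ : ℂ) * (χ₂ : G → ℂ) g + (a₃ : ℂ) * (χ₃ : G → ℂ) g = (δ : ℂ) * (ζ i : G → ℂ) g)
    {t : G} (ht : orderOf t = 2) (hnormal : ∀ K : Subgroup G, K.Normal → t ∈ K → K = ⊤) :
    (a₂ = -1 ∧ a₃ = -1 ∧ δ = -1 ∨ a₂ = -1 ∧ a₃ = 1 ∧ δ = 1 ∨ a₂ = 1 ∧ a₃ = -1 ∧ δ = 1) ∧
    ∀ i, IsSquare (charDegree (ζ i : G → ℂ) *
      (charDegree (χ₂ : G → ℂ) * charDegree (χ₃ : G → ℂ))) := by
  classical
  have := isMaximal_of_isPModular hM
  haveI : Finite (MulAut (P : Subgroup G)) := Finite.of_injective _ DFunLike.coe_injective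
  letI := Fintype.ofFinite (autP P)
  letI := Fintype.ofFinite (Orb (autP P))
  letI := Fintype.ofFinite (P : Subgroup G)
  have hp : p.Prime := Fact.out
  obtain ⟨i₀⟩ : Nonempty (Orb (autP P)) := (Nat.card_pos_iff.1 (by omega)).1
  have hsumB : ∀ f : IrrCharacter G → ℂ, ∑ χ ∈ (principalBlock M G).toFinite.toFinset, f χ =
      f (Chars.oneChar G) + f χ₂ + f χ₃ + ∑ i, f (ζ i) := by
    intro f
    rw [← finsum_block_eq_sum (principalBlock M G) f, hB,
      finsum_mem_union hdisj (Set.toFinite _) (Set.toFinite _), finsum_mem_range hinj,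
      finsum_mem_insert f (by simp [h21.symm, h31.symm]) (Set.toFinite _),
      finsum_mem_pair h23, finsum_eq_sum_of_fintype]
    ring
  set x := charDegree (χ₂ : G → ℂ) with hx
  set y := charDegree (χ₃ : G → ℂ) with hy
  set z := charDegree (ζ i₀ : G → ℂ) with hz
  have hx0 : 0 < x := Chars.charDegree_pos _
  have hy0 : 0 < y := Chars.charDegree_pos _
  have hz0 : 0 < z := Chars.charDegree_pos _
  have h1 : (1 : ℤ) + a₂ * x + a₃ * y = δ * z := by
    have h := hrel i₀ 1 (by simpa using hp.ne_one)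
    simp only [← Chars.coe_charDegree, ← hx, ← hy, ← hz] at h
    exact_mod_cast h
  have hzeta : ∀ i, charDegree (ζ i : G → ℂ) = z := by
    intro i
    have h := hagree i i₀ 1 (by simpa using hp.ne_one)
    rw [← Chars.coe_charDegree, ← Chars.coe_charDegree] at h
    exact_mod_cast h
  have hpY : ∀ y : (P : Subgroup G), ∃ k : ℕ, orderOf (y : G) = p ^ k := exists_orderOf
  by_cases hp2 : p = 2
  · -- impossible
    exfalso
    obtain ⟨k, hk⟩ := P.2.exists_card_eq
    have hk4 : 4 ≤ k := by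
      have hk' : Nat.card (P : Subgroup G) = 2 ^ k := hk.trans (by rw [hp2])
      by_contra hlt
      interval_cases k <;> omega
    have hq16 : 16 ≤ Nat.card (P : Subgroup G) := by
      rw [hk, hp2]
      calc 16 = 2 ^ 4 := by norm_num
        _ ≤ 2 ^ k := Nat.pow_le_pow_right (by norm_num) hk4
    obtain ⟨Q, hQ⟩ := (IsPGroup.of_card (n := 1) (by rw [Nat.card_zpowers, ht, hp2, pow_one]) :
      IsPGroup p (Subgroup.zpowers t)).exists_le_sylow
    obtain ⟨c, hc⟩ := MulAction.exists_smul_eq G Q P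
    have hmem : c * t * c⁻¹ ∈ (P : Subgroup G) := by
      rw [← hc, Sylow.smul_def]
      exact ⟨t, hQ (Subgroup.mem_zpowers t), rfl⟩
    set t₀ : (P : Subgroup G) := ⟨c * t * c⁻¹, hmem⟩ with ht₀
    have ht₀2 : orderOf (t₀ : G) = 2 := by
      rw [ht₀]
      exact ((MulAut.conj c).orderOf_eq t).trans ht
    have ht₀1 : (t₀ : G) ≠ 1 := fun h => by simp [h] at ht₀2
    have hnormal₀ : ∀ K : Subgroup G, K.Normal → (t₀ : G) ∈ K → K = ⊤ := by
      intro K hK hmemK
      refine hnormal K hK ?_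
      have := hK.conj_mem _ hmemK c⁻¹
      rw [ht₀] at this
      simpa [mul_assoc] using this
    obtain ⟨w, hw1, hw, hprod⟩ := exists_avoided hfrob hp2 hA3 hq16 ht₀2
    have htt : (t₀ : G) * t₀ = 1 := by
      have := pow_orderOf_eq_one (t₀ : G)
      rwa [ht₀2, sq] at this
    have h3 := sum_sq_div_mul_eq_zero hM isPBlock_principalBlock htt (hpY w) hprod
    rw [hsumB] at h3
    -- the orbit sum
    have hS : ∑ i, (∑ᶠ a : autP P, (Orb.rep (autP P) i ((a : MulAut (P : Subgroup G)) t₀) : ℂ)) ^ 2 *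
        (∑ᶠ a : autP P, (Orb.rep (autP P) i ((a : MulAut (P : Subgroup G)) w) : ℂ)) = -9 := by
      simp only [finsum_eq_sum_of_fintype]
      have e : ∀ i, (∑ a : autP P, (Orb.rep (autP P) i ((a : MulAut (P : Subgroup G)) t₀) : ℂ)) ^ 2 *
          (∑ a : autP P, (Orb.rep (autP P) i ((a : MulAut (P : Subgroup G)) w) : ℂ)) =
          ∑ b : autP P, ∑ b' : autP P, ∑ c : autP P, (Orb.rep (autP P) i ((c : MulAut (P : Subgroup G))
            ((b : MulAut (P : Subgroup G)) t₀ * (b' : MulAut (P : Subgroup G)) t₀ * w)) : ℂ) := by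
        intro i
        calc _ = ∑ c : autP P, (∑ b : autP P, (Orb.rep (autP P) i ((b : MulAut (P : Subgroup G)) t₀) : ℂ)) ^ 2 *
              (Orb.rep (autP P) i ((c : MulAut (P : Subgroup G)) w) : ℂ) := Finset.mul_sum _ _ _
          _ = ∑ c : autP P, ∑ b : autP P, ∑ b' : autP P, (Orb.rep (autP P) i ((c : MulAut (P : Subgroup G))
            ((b : MulAut (P : Subgroup G)) t₀ * (b' : MulAut (P : Subgroup G)) t₀ * w)) : ℂ) := by
              refine Finset.sum_congr rfl fun c _ => ?_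
              rw [← Equiv.sum_comp (Equiv.mulLeft c) (fun b : autP P =>
                (Orb.rep (autP P) i ((b : MulAut (P : Subgroup G)) t₀) : ℂ)), sq, Finset.sum_mul_sum,
                Finset.sum_mul]
              refine Finset.sum_congr rfl fun b _ => ?_
              rw [Finset.sum_mul]
              refine Finset.sum_congr rfl fun b' _ => ?_
              simp only [Equiv.coe_mulLeft, Subgroup.coe_mul, MulAut.mul_apply, map_mul, Units.val_mul]
          _ = _ := by
              rw [Finset.sum_comm]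
              exact Finset.sum_congr rfl fun b _ => Finset.sum_comm
      rw [Finset.sum_congr rfl fun i _ => e i, Finset.sum_comm]
      rw [Finset.sum_congr rfl fun b _ => Finset.sum_comm]
      rw [Finset.sum_congr rfl fun b _ => Finset.sum_congr rfl fun b' _ =>
        sum_orb_rep (fpf_autP hfrob) (hw b b')]
      simp only [Finset.sum_const, Finset.card_univ, ← Nat.card_eq_fintype_card, hA3, nsmul_eq_mul]
      norm_num
    have hT : ∑ i, (ζ i : G → ℂ) t₀ ^ 2 / (ζ i : G → ℂ) 1 * (ζ i : G → ℂ) w =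
        -9 * (δ : ℂ) / (z : ℂ) := by
      rw [show (-9 : ℂ) * δ / z = (δ : ℂ) ^ 3 / z * (-9) by
        rcases hδ with rfl | rfl <;> norm_num <;> ring, ← hS, Finset.mul_sum]
      refine Finset.sum_congr rfl fun i _ => ?_
      rw [hY i t₀ ht₀1, hY i w hw1, ← Chars.coe_charDegree, hzeta i]
      ring
    rw [hT, Chars.oneChar_apply, Chars.oneChar_apply, Chars.oneChar_apply, (hv t₀ ht₀1).1,
      (hv t₀ ht₀1).2, (hv w hw1).1, (hv w hw1).2, ← Chars.coe_charDegree, ← Chars.coe_charDegree,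
      ← hx, ← hy] at h3
    have hcx : (x : ℂ) ≠ 0 := Nat.cast_ne_zero.2 hx0.ne'
    have hcy : (y : ℂ) ≠ 0 := Nat.cast_ne_zero.2 hy0.ne'
    have hcz : (z : ℂ) ≠ 0 := Nat.cast_ne_zero.2 hz0.ne'
    field_simp at h3
    have h3' : (z : ℤ) * (x * y + a₂ * y + a₃ * x) = 9 * δ * (x * y) := by
      have hA : (a₂ : ℂ) ^ 2 = 1 := by rcases ha₂ with rfl | rfl <;> norm_num
      have hB : (a₃ : ℂ) ^ 2 = 1 := by rcases ha₃ with rfl | rfl <;> norm_num
      exact_mod_cast (by
        push_cast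
        linear_combination h3 - ((a₂ : ℂ) * y * z) * hA - ((a₃ : ℂ) * x * z) * hB :
        (((z : ℤ) * (x * y + a₂ * y + a₃ * x) : ℤ) : ℂ) = ((9 * δ * (x * y) : ℤ) : ℂ))
    have hbig : ∀ (χ : IrrCharacter G) (a : ℤ), (a = 1 ∨ a = -1) → χ ≠ Chars.oneChar G →
        (∀ v : (P : Subgroup G), (v : G) ≠ 1 → (χ : G → ℂ) v = (a : ℂ)) →
        (Nat.card (P : Subgroup G) : ℤ) ∣ (charDegree (χ : G → ℂ) : ℤ) - a ∧
          15 ≤ (charDegree (χ : G → ℂ) : ℤ) := by
      intro χ a ha hne hval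
      obtain ⟨m, hm'⟩ := exists_sum_subgroup_eq χ (P : Subgroup G)
      rw [Fintype.sum_eq_add_sum_subtype_ne _ (1 : (P : Subgroup G)),
        Finset.sum_congr rfl fun v _ => hval v.1 (fun e => v.2 (Subtype.ext e))] at hm'
      rw [Finset.sum_const, Finset.card_univ,
        Fintype.card_subtype_compl (p := fun i => i = (1 : (P : Subgroup G))),
        Fintype.card_subtype_eq, nsmul_eq_mul, OneMemClass.coe_one, ← Nat.card_eq_fintype_card,
        ← Chars.coe_charDegree, Nat.cast_sub Nat.card_pos] at hm'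
      have hd : (Nat.card (P : Subgroup G) : ℤ) ∣ (charDegree (χ : G → ℂ) : ℤ) - a :=
        ⟨(m : ℤ) - a, by
          exact_mod_cast (by push_cast at hm' ⊢; linear_combination hm' :
            (((charDegree (χ : G → ℂ) : ℤ) - a : ℤ) : ℂ) =
              (((Nat.card (P : Subgroup G) : ℤ) * ((m : ℤ) - a) : ℤ) : ℂ))⟩
      refine ⟨hd, ?_⟩
      have hpos : 0 < charDegree (χ : G → ℂ) := Chars.charDegree_pos χ
      rcases eq_or_ne ((charDegree (χ : G → ℂ) : ℤ) - a) 0 with h0 | h0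
      · exfalso
        refine hne (ZStar.eq_oneChar_of_apply_eq hnormal₀ ?_)
        rw [hval t₀ ht₀1, ← Chars.coe_charDegree]
        exact_mod_cast (sub_eq_zero.1 h0).symm
      · have := Int.natAbs_le_of_dvd_ne_zero hd h0
        omega
    obtain ⟨hd2, hx15⟩ := hbig χ₂ a₂ ha₂ h21 (fun v hv' => (hv v hv').1)
    obtain ⟨hd3, hy15⟩ := hbig χ₃ a₃ ha₃ h31 (fun v hv' => (hv v hv').2)
    refine no_two_solution (q := Nat.card (P : Subgroup G)) (by exact_mod_cast hq16) ha₂ ha₃ hx15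
      hy15 hd2 hd3 ?_
    have hδ2 : δ * δ = 1 := by rcases hδ with rfl | rfl <;> rfl
    rw [h1]
    linear_combination δ * h3' + (9 * ((x : ℤ) * y)) * hδ2
  -- `p` odd
  have hreg : ¬ p ∣ orderOf t := by
    rw [ht]
    exact fun h => hp2 ((Nat.prime_dvd_prime_iff_eq hp Nat.prime_two).1 h)
  obtain ⟨u, hu⟩ := exists_int_apply_two χ₂ ht
  obtain ⟨v, hv'⟩ := exists_int_apply_two χ₃ ht
  obtain ⟨s, hs⟩ := exists_int_apply_two (ζ i₀) ht
  have h2 : (1 : ℤ) + a₂ * u + a₃ * v = δ * s := by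
    have h := hrel i₀ t hreg
    rw [hu, hv', hs] at h
    exact_mod_cast h
  have htt : t * t = 1 := by
    have := pow_orderOf_eq_one t
    rwa [ht, sq] at this
  haveI : Nontrivial (P : Subgroup G) := Finite.one_lt_card_iff_nontrivial.1 (by omega)
  obtain ⟨w, hw⟩ := exists_ne (1 : (P : Subgroup G))
  have hw1 : (w : G) ≠ 1 := fun e => hw (Subtype.ext e)
  have hprod : ∀ a u : G, IsPPart p (t * (a * t * a⁻¹)) u → ¬ IsConj (w : G) u := by
    intro a u hu hyu
    have htinv : t⁻¹ = t := inv_eq_of_mul_eq_one_right htt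
    have h1 := isPPart_conj hu t
    have hx : t * (t * (a * t * a⁻¹)) * t⁻¹ = (t * (a * t * a⁻¹))⁻¹ := by
      simp only [mul_inv_rev, inv_inv, htinv]
      rw [← mul_assoc t t, htt, one_mul]
      simp only [mul_assoc]
    rw [hx] at h1
    obtain ⟨k, hk⟩ := exists_pow_eq_isPPart (G := G) hp
    obtain ⟨c, hc⟩ := isConj_iff.1 hyu
    have htu : IsConj u u⁻¹ := isConj_iff.2 ⟨t, by rw [← hk _ _ h1, ← hk _ _ hu, inv_pow]⟩
    have hww : w * w = 1 := by
      refine sq_eq_one_of_isConj_inv hA3 (hyu.trans (htu.trans (isConj_iff.2 ⟨c⁻¹, ?_⟩)))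
      rw [← hc]
      group
    obtain ⟨e, he⟩ := hpY w
    have hdvd : orderOf (w : G) ∣ 2 := orderOf_dvd_of_pow_eq_one (by
      rw [sq]; exact congrArg Subtype.val hww)
    rw [he] at hdvd
    rcases e.eq_zero_or_pos with rfl | hpos
    · exact hw1 (orderOf_eq_one_iff.1 (he.trans (pow_zero p)))
    · exact hp2 ((Nat.prime_dvd_prime_iff_eq hp Nat.prime_two).1
        ((dvd_pow_self p hpos.ne').trans hdvd))
  have h3 := sum_sq_div_mul_eq_zero hM isPBlock_principalBlock htt (hpY w) hprod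
  rw [hsumB] at h3
  have hT : ∑ i, (ζ i : G → ℂ) t ^ 2 / (ζ i : G → ℂ) 1 * (ζ i : G → ℂ) w =
      -((δ : ℂ) * (s : ℂ) ^ 2 / (z : ℂ)) := by
    have hS := sum_orb_rep (A := autP P) (fpf_autP hfrob) hw
    rw [show -((δ : ℂ) * (s : ℂ) ^ 2 / (z : ℂ)) = (δ : ℂ) * (s : ℂ) ^ 2 / (z : ℂ) * (-1) by ring,
      ← hS, Finset.mul_sum]
    refine Finset.sum_congr rfl fun i _ => ?_
    rw [hY i w hw1, finsum_eq_sum_of_fintype, hagree i i₀ t hreg, hs, ← Chars.coe_charDegree,
      hzeta i]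
    ring
  rw [hT, Chars.oneChar_apply, Chars.oneChar_apply, Chars.oneChar_apply, hu, hv', (hv w hw1).1,
    (hv w hw1).2, ← Chars.coe_charDegree, ← Chars.coe_charDegree, ← hx, ← hy] at h3
  have hcx : (x : ℂ) ≠ 0 := Nat.cast_ne_zero.2 hx0.ne'
  have hcy : (y : ℂ) ≠ 0 := Nat.cast_ne_zero.2 hy0.ne'
  have hcz : (z : ℂ) ≠ 0 := Nat.cast_ne_zero.2 hz0.ne'
  field_simp at h3
  have h3' : (x : ℤ) * y * z + a₂ * u ^ 2 * (y * z) + a₃ * v ^ 2 * (x * z) = δ * s ^ 2 * (x * y) := by
    exact_mod_cast (by push_cast; linear_combination h3 :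
      (((x : ℤ) * y * z + a₂ * u ^ 2 * (y * z) + a₃ * v ^ 2 * (x * z) : ℤ) : ℂ) =
        ((δ * s ^ 2 * (x * y) : ℤ) : ℂ))
  have hne : ∀ (χ : IrrCharacter G) (e : ℤ), χ ≠ Chars.oneChar G → (χ : G → ℂ) t = e →
      e ≠ (charDegree (χ : G → ℂ) : ℤ) := by
    intro χ e hχ he h
    refine hχ (ZStar.eq_oneChar_of_apply_eq hnormal ?_)
    rw [he, ← Chars.coe_charDegree, h]
    norm_cast
  have hu' : u ≠ (x : ℤ) := hne χ₂ u h21 hu
  have hv'' : v ≠ (y : ℤ) := hne χ₃ v h31 hv'
  have hs' : s ≠ (z : ℤ) := hne (ζ i₀) s (fun e => Set.disjoint_left.1 hdisj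
    (Set.mem_insert (Chars.oneChar G) _) ⟨i₀, e⟩) hs
  have hxZ : (0 : ℤ) < x := by exact_mod_cast hx0
  have hyZ : (0 : ℤ) < y := by exact_mod_cast hy0
  have hzZ : (0 : ℤ) < z := by exact_mod_cast hz0
  refine ⟨?_, fun i => ?_⟩
  · rcases ha₂ with rfl | rfl <;> rcases ha₃ with rfl | rfl <;> rcases hδ with rfl | rfl <;>
      simp only [true_and, and_true, true_or, or_true, false_and, and_false, or_false, false_or,
        show ((1 : ℤ) = -1) ↔ False by decide, show ((-1 : ℤ) = 1) ↔ False by decide] <;>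
      exfalso
    · exact hu' (eq_of_one_neg hxZ hyZ (dc := z) (xb := v) (xc := s) (by linarith) (by linarith)
        (by linear_combination h3'))
    · linarith
    · exact hu' (eq_of_one_neg hxZ hzZ (dc := y) (xb := s) (xc := v) (by linarith) (by linarith)
        (by linear_combination h3'))
    · exact hv'' (eq_of_one_neg hyZ hzZ (dc := x) (xb := s) (xc := u) (by linarith) (by linarith)
        (by linear_combination h3'))
    · linarith
  · rw [hzeta i]
    rcases ha₂ with rfl | rfl <;> rcases ha₃ with rfl | rfl <;> rcases hδ with rfl | rfl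
    all_goals first
      | (exact isSquare_of_two_neg (xa := u) (xb := v) (xc := s) (by linarith) (by linarith)
          (by linear_combination h3') hs')
      | (have := isSquare_of_two_neg (da := x) (db := z) (dc := y) (xa := u) (xb := s) (xc := v)
          (by linarith) (by linarith) (by linear_combination h3') hv''
         rwa [show y * (x * z) = z * (x * y) by ring] at this)
      | (have := isSquare_of_two_neg (da := y) (db := z) (dc := x) (xa := v) (xb := s) (xc := u)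
          (by linarith) (by linarith) (by linear_combination h3') hu'
         rwa [show x * (y * z) = z * (x * y) by ring] at this)
      | exact absurd (eq_of_one_neg hxZ hyZ (dc := z) (xb := v) (xc := s) (by linarith)
          (by linarith) (by linear_combination h3')) hu'
      | exact absurd (eq_of_one_neg hxZ hzZ (dc := y) (xb := s) (xc := v) (by linarith)
          (by linarith) (by linear_combination h3')) hu'
      | exact absurd (eq_of_one_neg hyZ hzZ (dc := x) (xb := s) (xc := u) (by linarith)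
          (by linarith) (by linear_combination h3')) hv''
      | (exfalso; linarith)

end CfsgLib.Blocks.AbelianFrobenius
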