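import Cfsg.Agent.Blocks.HeightZero.PrincipalSection
import Cfsg.Agent.Blocks.PrincipalLinear
import Cfsg.Agent.Blocks.Orth.Blocks
import Cfsg.Agent.Blocks.Orth.Sums
import Cfsg.Agent.Chars.Basic.Restrict
import Cfsg.Agent.Blocks.AbelianFrobenius.Coherent
import Cfsg.Agent.Blocks.AbelianFrobenius.Dual

/-!
# The principal block of an abelian Sylow subgroup with a Frobenius action of its normalizer

All non-identity elements of the abelian Sylow subgroup `P` have `p`-nilpotent centralizers, so the
principal block is constant on `p`-sections; the differences of orbits of linear characters of `P`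
give an isometry into the block, which is coherent.
-/

set_option autoImplicit false
open Cfsg CfsgLib
open CfsgLib.Blocks CfsgLib.Blocks.HeightZero

namespace CfsgLib.Blocks.AbelianFrobenius

universe u

variable {G : Type u} [Group G] [Fintype G] {p : ℕ} [Fact p.Prime] {M : Ideal AlgInt}
  (P : Sylow p G) [hab : IsMulCommutative P]

/-- The automorphisms of `P` induced by its normalizer. -/
noncomputable def autP : Subgroup (MulAut (P : Subgroup G)) :=
  ((P : Subgroup G).normalizerMonoidHom).range

omit [Fintype G] [Fact p.Prime] hab in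
theorem normalizerMonoidHom_coe (n : Subgroup.normalizer ((P : Subgroup G) : Set G))
    (y : (P : Subgroup G)) :
    (((P : Subgroup G).normalizerMonoidHom n y : (P : Subgroup G)) : G) =
      (n : G) * (y : G) * (n : G)⁻¹ := rfl

omit [Fintype G] [Fact p.Prime] hab in
theorem card_autP :
    Nat.card (autP P) = (Subgroup.centralizer ((P : Subgroup G) : Set G)).relIndex
      (Subgroup.normalizer ((P : Subgroup G) : Set G)) := by
  rw [autP, ← Subgroup.index_ker, Subgroup.normalizerMonoidHom_ker]
  rfl

/-- The Frobenius hypothesis. -/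
def Frob : Prop := ∀ y : G, y ∈ (P : Subgroup G) → y ≠ 1 →
    Subgroup.centralizer ({y} : Set G) ⊓ Subgroup.normalizer ((P : Subgroup G) : Set G) =
      Subgroup.centralizer ((P : Subgroup G) : Set G)

variable {P}

omit [Fintype G] [Fact p.Prime] hab in
theorem fpf_autP (hfrob : Frob P) : FPF (autP P) := by
  rintro _ ⟨n, rfl⟩ hne y hy
  by_contra hy1
  apply hne
  have hc : (n : G) ∈ Subgroup.centralizer ((P : Subgroup G) : Set G) := by
    rw [← hfrob y y.2 fun e => hy1 (Subtype.ext e)]
    refine ⟨Subgroup.mem_centralizer_singleton_iff.2 ?_, n.2⟩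
    have h := congrArg (fun z : (P : Subgroup G) => (z : G)) hy
    simp only [normalizerMonoidHom_coe] at h
    calc (n : G) * y = (n : G) * (y : G) * (n : G)⁻¹ * n := by group
      _ = (y : G) * n := by rw [h]
  refine MulEquiv.ext fun z => Subtype.ext ?_
  rw [normalizerMonoidHom_coe, MulAut.one_apply,
    ← Subgroup.mem_centralizer_iff.1 hc z z.2, mul_inv_cancel_right]

/-- The centralizer of a non-identity element of `P` has a normal `p`-complement. -/
theorem exists_complement (hfrob : Frob P) {y : G} (hy : y ∈ (P : Subgroup G)) (hy1 : y ≠ 1) :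
    ∃ K : Subgroup (Subgroup.centralizer ({y} : Set G)), K.Normal ∧ ¬ p ∣ Nat.card K ∧
      K.index = Nat.card (P : Subgroup G) ∧
      ∀ s : Subgroup.centralizer ({y} : Set G), ¬ p ∣ orderOf s → s ∈ K := by
  have hle : (P : Subgroup G) ≤ Subgroup.centralizer ({y} : Set G) := fun z hz =>
    Subgroup.mem_centralizer_singleton_iff.2
      (congrArg Subtype.val (hab.is_comm.comm (⟨z, hz⟩ : (P : Subgroup G)) ⟨y, hy⟩))
  set P' := P.subtype hle with hP'
  have hN : Subgroup.normalizer ((P' : Subgroup (Subgroup.centralizer ({y} : Set G))) :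
      Set (Subgroup.centralizer ({y} : Set G))) ≤
        Subgroup.centralizer (P' : Set (Subgroup.centralizer ({y} : Set G))) := by
    intro c hc
    have hcN : (c : G) ∈ Subgroup.normalizer ((P : Subgroup G) : Set G) := by
      rw [Subgroup.mem_normalizer_iff]
      intro z
      constructor
      · intro hz
        have := (Subgroup.mem_normalizer_iff.1 hc ⟨z, hle hz⟩).1 (by
          rw [hP', Sylow.coe_subtype, Subgroup.mem_subgroupOf]; exact hz)
        rwa [hP', Sylow.coe_subtype, Subgroup.mem_subgroupOf] at this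
      · intro hz
        have hzC : z ∈ Subgroup.centralizer ({y} : Set G) := by
          have := mul_mem (mul_mem (inv_mem c.2) (hle hz)) c.2
          simpa [mul_assoc] using this
        have := (Subgroup.mem_normalizer_iff.1 hc ⟨z, hzC⟩).2 (by
          rw [hP', Sylow.coe_subtype, Subgroup.mem_subgroupOf]; exact hz)
        rwa [hP', Sylow.coe_subtype, Subgroup.mem_subgroupOf] at this
    have hcC := (hfrob y hy hy1).le ⟨c.2, hcN⟩
    refine Subgroup.mem_centralizer_iff.2 fun z hz => Subtype.ext ?_
    exact Subgroup.mem_centralizer_iff.1 hcC z hz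
  have hcomp := MonoidHom.ker_transferSylow_isComplement' P' hN
  have hidx : (MonoidHom.transferSylow P' hN).ker.index = Nat.card (P : Subgroup G) := by
    rw [hcomp.symm.index_eq_card, hP', Sylow.coe_subtype]
    exact Nat.card_congr (Subgroup.subgroupOfEquivOfLe hle).toEquiv
  refine ⟨_, inferInstance, MonoidHom.not_dvd_card_ker_transferSylow P' hN, hidx, fun s hs => ?_⟩
  obtain ⟨k, hk⟩ := IsPGroup.iff_card.1 P.2
  have h1 : orderOf (QuotientGroup.mk' (MonoidHom.transferSylow P' hN).ker s) ∣ p ^ k := by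
    rw [← hk, ← hidx, Subgroup.index_eq_card]
    exact orderOf_dvd_natCard _
  have h2 : orderOf (QuotientGroup.mk' (MonoidHom.transferSylow P' hN).ker s) ∣ orderOf s :=
    orderOf_map_dvd _ s
  have hcop : (orderOf s).Coprime (p ^ k) :=
    (((Fact.out : p.Prime).coprime_iff_not_dvd.2 hs).symm).pow_right k
  have := Nat.eq_one_of_dvd_coprimes hcop h2 h1
  exact (QuotientGroup.eq_one_iff _).1 (orderOf_eq_one_iff.1 this)

omit hab in
theorem exists_orderOf (y : (P : Subgroup G)) : ∃ e : ℕ, orderOf (y : G) = p ^ e := by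
  obtain ⟨k, hk⟩ := P.2 y
  have h : orderOf y ∣ p ^ k := orderOf_dvd_of_pow_eq_one hk
  rw [← Subgroup.orderOf_coe] at h
  obtain ⟨e, -, he⟩ := (Nat.dvd_prime_pow Fact.out).1 h
  exact ⟨e, he⟩

/-- The principal block is constant on the sections of `P`. -/
theorem apply_section (hM : IsPModular p M) (hfrob : Frob P) {χ : IrrCharacter G}
    (hχ : χ ∈ principalBlock M G) {z : G} {y : (P : Subgroup G)} (hz : IsPPart p z (y : G))
    (hy : (y : G) ≠ 1) : (χ : G → ℂ) z = (χ : G → ℂ) y := by
  classical
  have := isMaximal_of_isPModular hM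
  obtain ⟨s, rfl, hc, hu, hs⟩ := hz
  obtain ⟨K, hKn, hKp, -, hKreg⟩ := exists_complement hfrob y.2 hy
  have hsC : s ∈ Subgroup.centralizer ({(y : G)} : Set G) :=
    Subgroup.mem_centralizer_singleton_iff.2 hc.symm.eq
  haveI := Fintype.ofFinite (Subgroup.centralizer ({(y : G)} : Set G))
  have e1 := apply_section_eq_blockPart hM hu hχ (s := ⟨s, hsC⟩) (by rwa [Subgroup.orderOf_mk])
  have e2 := apply_section_eq_blockPart hM hu hχ (s := 1)
    (by simpa using hM.1.ne_one)
  simp only [Subgroup.coe_one, mul_one] at e2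
  refine e1.trans (Eq.trans ?_ e2.symm)
  rw [blockPart_apply_eq, Finset.sum_apply, Finset.sum_apply]
  refine Finset.sum_congr rfl fun ψ hψ => ?_
  rw [Pi.smul_apply, Pi.smul_apply]
  congr 1
  exact Chars.map_eq_map_one_of_mem_charKer
    (le_charKer_of_mem_principalBlock K hM hKp ((Set.Finite.mem_toFinset _).1 hψ)
      (hKreg ⟨s, hsC⟩ (by rwa [Subgroup.orderOf_mk])))

/-- The squared column. -/
theorem column_self (hM : IsPModular p M) (hfrob : Frob P) {y : (P : Subgroup G)}
    (hy : (y : G) ≠ 1) :
    ∑ χ ∈ (principalBlock M G).toFinite.toFinset, (χ : G → ℂ) y * (χ : G → ℂ) (y : G)⁻¹ =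
      (Nat.card (P : Subgroup G) : ℂ) := by
  classical
  have := isMaximal_of_isPModular hM
  obtain ⟨K, hKn, hKp, hKi, -⟩ := exists_complement hfrob y.2 hy
  haveI := Fintype.ofFinite (Subgroup.centralizer ({(y : G)} : Set G))
  have h := sum_principal_section (u := (y : G)) hM (exists_orderOf y)
    (s := 1) (by simpa using hM.1.ne_one)
  simp only [Subgroup.coe_one, mul_one] at h
  rw [Finset.sum_congr rfl fun χ _ => by rw [Chars.map_inv_eq_conj (Chars.isCharacter_coe χ)], h,
    ← hKi, ← Chars.sum_charDegree_sq_of_le_charKer (N := K), Nat.cast_sum]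
  refine Finset.sum_congr ?_ fun ψ _ => ?_
  · ext ψ
    simp only [Set.Finite.mem_toFinset, Finset.mem_filter, Finset.mem_univ, true_and]
    refine ⟨fun h => le_charKer_of_mem_principalBlock K hM hKp h, fun h => ?_⟩
    obtain ⟨k, hk⟩ := IsPGroup.iff_card.1 P.2
    exact mem_principalBlock_of_le_charKer hM K ⟨k, hKi.trans hk⟩ h
  · rw [← Chars.coe_charDegree, Complex.conj_natCast, Nat.cast_pow, pow_two]

open scoped Classical in
/-- The products of two columns. -/
theorem column (hM : IsPModular p M) (hfrob : Frob P) [Fintype (autP P)] {y y' : (P : Subgroup G)}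
    (hy : (y : G) ≠ 1) (hy' : (y' : G) ≠ 1) :
    ∑ χ ∈ (principalBlock M G).toFinite.toFinset, (χ : G → ℂ) y * (χ : G → ℂ) (y' : G)⁻¹ =
      (Nat.card (P : Subgroup G) : ℂ) *
        ∑ a : autP P, if (a : MulAut (P : Subgroup G)) y = y' then (1 : ℂ) else 0 := by
  have := isMaximal_of_isPModular hM
  by_cases h : ∃ a : autP P, (a : MulAut (P : Subgroup G)) y = y'
  · obtain ⟨a, ha⟩ := h
    rw [Finset.sum_eq_single a, if_pos ha, mul_one]
    · obtain ⟨n, hn⟩ := a.2
      have hy'n : (y' : G) = (n : G) * y * (n : G)⁻¹ := by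
        rw [← ha, ← hn, normalizerMonoidHom_coe]
      rw [← column_self hM hfrob hy']
      refine Finset.sum_congr rfl fun χ _ => ?_
      conv_rhs => arg 1; rw [hy'n, Chars.isClassFunction_coe χ]
    · intro b _ hb
      rw [if_neg]
      intro hby
      apply hb
      have hfix : ((b⁻¹ * a : autP P) : MulAut (P : Subgroup G)) y = y := by
        rw [Subgroup.coe_mul, MulAut.mul_apply, ha, ← hby, Subgroup.coe_inv, MulAut.inv_apply,
          MulEquiv.symm_apply_apply]
      by_contra hne
      exact hy (congrArg Subtype.val (fpf_autP hfrob _ (b⁻¹ * a).2 (fun e => hne (by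
        have : b⁻¹ * a = 1 := Subtype.ext e
        exact inv_mul_eq_one.1 this)) y hfix))
    · simp
  · rw [Finset.sum_eq_zero fun a _ => if_neg fun e => h ⟨a, e⟩, mul_zero]
    have hconj : ¬ IsConj (y' : G) (y : G) := by
      intro hc
      obtain ⟨g, hg⟩ := isConj_iff.1 hc.symm
      obtain ⟨n, hn, he⟩ := P.conj_eq_normalizer_conj_of_mem (y : G) g⁻¹ y.2 (by
        rw [inv_inv, hg]; exact y'.2)
      rw [inv_inv, hg] at he
      refine h ⟨⟨(P : Subgroup G).normalizerMonoidHom ⟨n⁻¹, inv_mem hn⟩, ⟨_, rfl⟩⟩, Subtype.ext ?_⟩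
      rw [normalizerMonoidHom_coe, inv_inv]
      exact he.symm
    exact sum_mul_inv_eq_zero_of_pPart hM (isIntegralSet_block hM isPBlock_principalBlock)
      (u := (y : G)) (v := (y' : G))
      ⟨1, mul_one _, Commute.one_right _, exists_orderOf y, by simpa using hM.1.ne_one⟩
      ⟨1, mul_one _, Commute.one_right _, exists_orderOf y', by simpa using hM.1.ne_one⟩ hconj

/-- All irreducible characters of an abelian group are linear. -/
theorem linChar_bijective :
    Function.Bijective (Chars.linChar (G := (P : Subgroup G))) :=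
  ⟨Chars.linChar_injective, fun θ => Chars.exists_linChar_eq θ
    (Chars.map_one_eq_one_of_isMulCommutative θ)⟩

/-- The multiplicities of the linear characters of `P`. -/
theorem exists_mult [Fintype (P : Subgroup G)] [Fintype ((P : Subgroup G) →* ℂˣ)] (χ : IrrCharacter G) :
    ∃ c : ((P : Subgroup G) →* ℂˣ) → ℤ,
      (∀ y : (P : Subgroup G), (χ : G → ℂ) y = ∑ ψ, (c ψ : ℂ) * (ψ y : ℂ)) ∧
      ∀ ψ, (Fintype.card (P : Subgroup G) : ℂ) * (c ψ : ℂ) =
        ∑ y : (P : Subgroup G), (χ : G → ℂ) y * (ψ y⁻¹ : ℂ) := by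
  classical
  obtain ⟨n, -, hn, -⟩ := Chars.exists_restrict_coeff χ (P : Subgroup G)
  have hexp : ∀ y : (P : Subgroup G),
      (χ : G → ℂ) y = ∑ ψ : (P : Subgroup G) →* ℂˣ, ((n (Chars.linChar ψ) : ℤ) : ℂ) * (ψ y : ℂ) := by
    intro y
    refine (congrFun hn y).trans ?_
    rw [Finset.sum_apply]
    refine (Fintype.sum_bijective _ linChar_bijective _ _ fun ψ => ?_).symm
    simp
  refine ⟨fun ψ => (n (Chars.linChar ψ) : ℤ), hexp, fun ψ => ?_⟩
  simp only [hexp, Finset.sum_mul, mul_assoc]
  rw [Finset.sum_comm, Finset.sum_congr rfl fun φ _ => by rw [← Finset.mul_sum, sum_mul_inv]]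
  simp [mul_comm]

end CfsgLib.Blocks.AbelianFrobenius
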